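import Groth.Agent.Lib.StAlg.DiagApps

/-! Descent of properties of representable functors along covers. -/

universe u

open CategoryTheory CategoryTheory.Functor CategoryTheory.Limits AlgebraicGeometry Opposite

set_option linter.style.haveILetI false
set_option linter.unusedSectionVars false
set_option backward.isDefEq.respectTransparency false
set_option backward.isDefEq.respectTransparency.types false

namespace Groth.Agent.StAlg

open Groth.Agent.FC16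

variable {S : Scheme.{u}} {P : MorphismProperty (AlgSp.Sp S)} {𝒳 𝒴 𝒵 : AlgSt.Cat S}

/-- `overMap h` as a map of presheaves -/
noncomputable def overMapIso {U V : Over S} (h : V ⟶ U) :
    BasedFunctor.comp (Stk.ofPshMap (P := ((AlgSp.yon S).obj V).obj) (Q := ((AlgSp.yon S).obj U).obj)
        ((AlgSp.yon S).map h).hom) (AlgSt.toOverCat U) ≅
      BasedFunctor.comp (AlgSt.toOverCat V) (AlgSt.overMap h) :=
  wrIso (eqToIso (congrArg Stk.ofPshMap (show ((AlgSp.yon S).map h).hom =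
    mapOf (BasedFunctor.comp (AlgSt.toOverCat V) (BasedFunctor.comp (AlgSt.overMap h) (AlgSt.ofOverCat U))) by
      ext T x; rfl)) ≪≫ (isoMapOf _).symm) (AlgSt.toOverCat U) ≪≫
    wlIso (BasedFunctor.comp (AlgSt.toOverCat V) (AlgSt.overMap h)) (eqToIso (ofOver_toOver U))

/-- a property of a base change can be checked after a covering of the base -/
theorem repOf_of_cover (hPb : PbP P) (hP : AlgSp.IsLocalOnBase AlgSp.IsFppfCover P)
    (h𝒳 : FibCat.IsFibGrpd 𝒳.p) (h𝒴 : FibCat.IsFibGrpd 𝒴.p) {f : 𝒳 ⥤ᵇ 𝒴} (hf : AlgSt.RepByAlgSp1 f)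
    {U : Over S} (y : FibCat.overCat U ⥤ᵇ 𝒴) {ι : Type u} (V : ι → Over S) (h : ∀ i, V i ⟶ U)
    (hc : AlgSp.IsFppfCover (fun i => (AlgSp.yon S).obj (V i)) (fun i => (AlgSp.yon S).map (h i)))
    (hr : ∀ i, RepOf P (FibCat.fpFst (BasedFunctor.comp (AlgSt.overMap (h i)) y) f)) :
    RepOf P (FibCat.fpFst y f) := by
  obtain ⟨G, a, e, he, ⟨i₀⟩, hra, -⟩ := exists_rep_over h𝒳 h𝒴 hf (BasedFunctor.comp (AlgSt.toOverCat U) y)
  obtain ⟨hG, hGA⟩ := AlgSpace.isAlgSpaceP_of_repBySp a hra (AlgSpace.isAlgSpaceP_pyon U)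
  haveI := idFun_full (𝒳 := 𝒴)
  haveI := idFun_faithful (𝒳 := 𝒴)
  let A : (⟨G, hG⟩ : AlgSp.Sp S) ⟶ (AlgSp.yon S).obj U := ObjectProperty.homMk a
  have key : ∀ i, ∃ (X : AlgSp.Sp S) (fst : X ⟶ (⟨G, hG⟩ : AlgSp.Sp S)) (snd : X ⟶ (AlgSp.yon S).obj (V i)),
      AlgSp.IsAlgSpace X ∧ IsPullback fst snd A ((AlgSp.yon S).map (h i)) ∧ P snd := fun i => by
    let y₀ : FibCat.overCat (V i) ⥤ᵇ AlgSt.ofSch U := BasedFunctor.comp (AlgSt.overMap (h i)) (AlgSt.ofOverCat U)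
    have sq := IsPullback.of_hasPullback a ((AlgSp.yon S).map (h i)).hom
    have hy : mapOf (BasedFunctor.comp (AlgSt.toOverCat (V i)) y₀) = ((AlgSp.yon S).map (h i)).hom := by
      ext T x; rfl
    have h1 : RepOf P (FibCat.fpFst y₀ (FibCat.fpFst (BasedFunctor.comp (AlgSt.toOverCat U) y) f)) :=
      repOf_of_equiv' (pasteL_isEquivOver y₀ (BasedFunctor.comp (AlgSt.toOverCat U) y) f) (Iso.refl _) (hr i)
    haveI := idFun_full (𝒳 := AlgSt.ofSch U)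
    haveI := idFun_faithful (𝒳 := AlgSt.ofSch U)
    have hm : FibCat.IsEquivOver (fpMap (a := BasedFunctor.id (FibCat.overCat (V i))) (b := e)
        (s := BasedFunctor.id (AlgSt.ofSch U)) (F := y₀) (G := Stk.ofPshMap a) (F' := y₀)
        (G' := FibCat.fpFst (BasedFunctor.comp (AlgSt.toOverCat U) y) f) (Iso.refl _) i₀) :=
      fpMap_isEquivOver (a := BasedFunctor.id (FibCat.overCat (V i))) (b := e)
        (s := BasedFunctor.id (AlgSt.ofSch U)) (F := y₀) (G := Stk.ofPshMap a) (F' := y₀)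
        (G' := FibCat.fpFst (BasedFunctor.comp (AlgSt.toOverCat U) y) f) (Iso.refl _) i₀ isEquivOver_id he
    obtain ⟨hX, hXA, hXP⟩ := square_of_repOf (preIso_of_pullback hPb) sq y₀ hy
      (repOf_of_equiv' hm (Iso.refl _) h1)
    exact ⟨⟨_, hX⟩, ObjectProperty.homMk (pullback.fst a ((AlgSp.yon S).map (h i)).hom), _, hXA,
      IsPullback.of_map (sheafToPresheaf (AlgSp.J S) (Type (u + 1))) (ObjectProperty.hom_ext _ sq.w) sq, hXP⟩
  choose X fst snd hXA sq hXP using key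
  have hA : P A := (hP _ _ (AlgSp.IsAlgSpace.yon_obj U) (fun i => AlgSp.IsAlgSpace.yon_obj (V i)) hc A hGA
    X snd fst hXA sq).2 hXP
  refine repOf_of_equiv (E := BasedFunctor.comp e (fpMap (a := AlgSt.toOverCat U) (b := BasedFunctor.id 𝒳)
      (s := BasedFunctor.id 𝒴) (F := BasedFunctor.comp (AlgSt.toOverCat U) y) (G := f) (F' := y) (G' := f)
      (Iso.refl _) (Iso.refl _))) (isEquivOver_comp he (fpMap_isEquivOver _ _ (toOverCat_isEquivOver U) isEquivOver_id))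
    ?_ (repOf_ofPsh_of a (h := hG) hGA hA)
  exact wrIso i₀ (AlgSt.toOverCat U)

/-- a flat, surjective, finitely presented functor lifts schemes after a covering -/
theorem exists_cover_lift (h𝒴 : FibCat.IsFibGrpd 𝒴.p) (h𝒵 : FibCat.IsFibGrpd 𝒵.p) {z : 𝒵 ⥤ᵇ 𝒴}
    (hz₁ : AlgSt.RepByAlgSpWith (AlgSp.LocP @Flat) z)
    (hz₂ : AlgSt.RepByAlgSpWith (AlgSp.LocP @LocallyOfFinitePresentation) z)
    (hz₃ : AlgSt.RepByAlgSpWith AlgSp.IsSurjectiveMor z) (U : Over S) (y : FibCat.overCat U ⥤ᵇ 𝒴) :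
    ∃ (V : Over S) (k : V ⟶ U) (v : FibCat.overCat V ⥤ᵇ 𝒵),
      AlgSp.IsFppfCover (fun _ : PUnit.{u + 1} => (AlgSp.yon S).obj V) (fun _ => (AlgSp.yon S).map k) ∧
        Nonempty (BasedFunctor.comp (AlgSt.overMap k) y ≅ BasedFunctor.comp v z) := by
  obtain ⟨G, a, e, -, ⟨i₀⟩, hra, hr⟩ := exists_rep_over h𝒵 h𝒴 (repByAlgSp1_of_with hz₁)
    (BasedFunctor.comp (AlgSt.toOverCat U) y)
  obtain ⟨hG, hGA⟩ := AlgSpace.isAlgSpaceP_of_repBySp a hra (AlgSpace.isAlgSpaceP_pyon U)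
  let A : (⟨G, hG⟩ : AlgSp.Sp S) ⟶ (AlgSp.yon S).obj U := ObjectProperty.homMk a
  have hid : IsPullback (𝟙 G) a a (𝟙 (((AlgSp.yon S).obj U).obj)) := IsPullback.of_horiz_isIso ⟨by simp⟩
  have hA₁ : AlgSp.LocP @Flat A := (hr _ (preIso_of_pullback pbP_locP) hz₁ _ _ _ hid).2.2
  have hA₂ : AlgSp.LocP @LocallyOfFinitePresentation A := (hr _ (preIso_of_pullback pbP_locP) hz₂ _ _ _ hid).2.2
  have hA₃ : AlgSp.IsSurjectiveMor A := (hr _ goodP_surjective.preIso hz₃ _ _ _ hid).2.2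
  obtain ⟨V, p, hp, hps⟩ := hGA.atlas
  obtain ⟨k, hk⟩ := (AlgSp.yon S).map_surjective (p ≫ A)
  have hV := AlgSp.IsAlgSpace.yon_obj V
  have hU := AlgSp.IsAlgSpace.yon_obj U
  let P' := BasedFunctor.comp (AlgSt.ofOverCat V) (Stk.ofPshMap (P := ((AlgSp.yon S).obj V).obj) p.hom)
  let v : FibCat.overCat V ⥤ᵇ 𝒵 := BasedFunctor.comp (BasedFunctor.comp P' e) (FibCat.fpSnd _ z)
  refine ⟨V, k, v, ⟨fun _ => ?_, fun x => ⟨PUnit.unit, ?_⟩⟩, ?_⟩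
  · show AlgSp.LocP @Flat ((AlgSp.yon S).map k) ∧ AlgSp.LocP @LocallyOfFinitePresentation ((AlgSp.yon S).map k)
    rw [hk]
    exact ⟨AlgSpace.locP_comp hV hGA hU (AlgSpace.locP_of_repWith hGA
        (AlgSpace.repWith_mono AlgSpace.etale_le_flat hp)) hA₁,
      AlgSpace.locP_comp hV hGA hU (AlgSpace.locP_of_repWith hGA
        (AlgSpace.repWith_mono AlgSpace.etale_le_lfp hp)) hA₂⟩
  · obtain ⟨g, rfl⟩ := hA₃ x
    obtain ⟨v, rfl⟩ := AlgSpace.surjective_map_of_repWith hps g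
    exact ⟨v, by rw [hk]; exact AlgSp.Points.map_comp p A v⟩
  · have hk' : mapOf (BasedFunctor.comp (Stk.ofPshMap (P := ((AlgSp.yon S).obj V).obj) p.hom) (Stk.ofPshMap a)) =
        ((AlgSp.yon S).map k).hom := by
      rw [mapOf_comp, mapOf_ofPshMap, mapOf_ofPshMap, hk]; rfl
    let j : BasedFunctor.comp (BasedFunctor.comp P' (Stk.ofPshMap a)) (AlgSt.toOverCat U) ≅ AlgSt.overMap k :=
      wlIso (AlgSt.ofOverCat V) (wrIso (isoMapOf _ ≪≫ eqToIso (congrArg Stk.ofPshMap hk')) (AlgSt.toOverCat U) ≪≫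
        overMapIso k) ≪≫ wrIso (eqToIso (ofOver_toOver V)) (AlgSt.overMap k)
    let i : BasedFunctor.comp (AlgSt.overMap k) y ≅ BasedFunctor.comp v z :=
      wrIso j.symm y ≪≫ wlIso P' (wrIso i₀.symm (BasedFunctor.comp (AlgSt.toOverCat U) y)) ≪≫
        wlIso (BasedFunctor.comp P' e) (FibCat.fpIso (BasedFunctor.comp (AlgSt.toOverCat U) y) z)
    exact ⟨i⟩

/-- descent along a flat, surjective, finitely presented functor -/
theorem with_of_fpFst_cover (hPb : PbP P) (hP : AlgSp.IsLocalOnBase AlgSp.IsFppfCover P)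
    (h𝒳 : FibCat.IsFibGrpd 𝒳.p) (h𝒴 : FibCat.IsFibGrpd 𝒴.p) (h𝒵 : FibCat.IsFibGrpd 𝒵.p)
    {f : 𝒳 ⥤ᵇ 𝒴} (hf : AlgSt.RepByAlgSp1 f) {z : 𝒵 ⥤ᵇ 𝒴}
    (hz₁ : AlgSt.RepByAlgSpWith (AlgSp.LocP @Flat) z)
    (hz₂ : AlgSt.RepByAlgSpWith (AlgSp.LocP @LocallyOfFinitePresentation) z)
    (hz₃ : AlgSt.RepByAlgSpWith AlgSp.IsSurjectiveMor z)
    (h : AlgSt.RepByAlgSpWith P (FibCat.fpFst z f)) : AlgSt.RepByAlgSpWith P f := fun U y => by
  obtain ⟨V, k, v, hc, ⟨i⟩⟩ := exists_cover_lift h𝒴 h𝒵 hz₁ hz₂ hz₃ U y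
  exact repOf_of_cover hPb hP h𝒳 h𝒴 hf y (fun _ => V) (fun _ => k) hc fun _ =>
    repOf_left i (repOf_of_equiv (pasteL_isEquivOver v z f) (Iso.refl _) (h V v))

lemma locP_mono {R R' : MorphismProperty Scheme.{u}} (hRR : R ≤ R') {X Y : AlgSp.Sp S} {a : X ⟶ Y}
    (h : AlgSp.LocP R a) : AlgSp.LocP R' a := fun _ _ p q k hp hq w => hRR _ (h p q k hp hq w)

lemma with_locP_mono {R R' : MorphismProperty Scheme.{u}} (hRR : R ≤ R') {f : 𝒳 ⥤ᵇ 𝒴}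
    (h : AlgSt.RepByAlgSpWith (AlgSp.LocP R) f) : AlgSt.RepByAlgSpWith (AlgSp.LocP R') f :=
  repByAlgSpWith_mono (fun _ _ _ _ ha => locP_mono hRR ha) h

lemma smooth_le_flat : (@Smooth.{u} : MorphismProperty Scheme.{u}) ≤ @Flat.{u} :=
  fun _ _ g (_ : Smooth g) => (inferInstance : Flat g)

lemma smooth_le_lfp : (@Smooth.{u} : MorphismProperty Scheme.{u}) ≤ @LocallyOfFinitePresentation.{u} :=
  fun _ _ g (_ : Smooth g) => (inferInstance : LocallyOfFinitePresentation g)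

lemma smooth_le_lft : (@Smooth.{u} : MorphismProperty Scheme.{u}) ≤ @LocallyOfFiniteType.{u} :=
  fun _ _ g (_ : Smooth g) => (inferInstance : LocallyOfFiniteType g)

lemma lftUnram_le_lft : (@LocallyOfFiniteType.{u} ⊓ @FormallyUnramified.{u} : MorphismProperty Scheme.{u}) ≤
    @LocallyOfFiniteType.{u} := fun _ _ _ h => h.1

lemma isLocalOnBase_fppf_locP_lft :
    AlgSp.IsLocalOnBase (AlgSp.IsFppfCover (S := S)) (AlgSp.LocP @LocallyOfFiniteType) :=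
  isLocalOnBase_fppf_of_fpqc (AlgSpDescent.isLocalOnBase_fpqc_locP AlgSpDescent.precompEtale_lft
    AlgSpDescent.descendsEtaleSource_locallyOfFiniteType)

/-- the diagonal over the base inherits properties of a flat cover by a space -/
theorem diag_toSelf_of_cover {R : MorphismProperty Scheme.{u}} [AlgSpace.EtaleLocal R]
    (hR : AlgSp.IsLocalOnBase AlgSp.IsFppfCover (AlgSp.LocP (S := S) R))
    (hd : ∀ ⦃X : AlgSp.Sp S⦄, AlgSp.IsAlgSpace X → ∀ ⦃U : Over S⦄ (a : X ⟶ (AlgSp.yon S).obj U),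
      AlgSp.LocP R (pullback.diagonal a))
    (h𝒳 : AlgSt.IsAlgStack Scheme.fppfPrecoverage 𝒳) (h𝒲 : AlgSt.RepByAlgSp 𝒵) {w : 𝒵 ⥤ᵇ 𝒳}
    (hw₁ : AlgSt.RepByAlgSpWith (AlgSp.LocP @Flat) w)
    (hw₂ : AlgSt.RepByAlgSpWith (AlgSp.LocP @LocallyOfFinitePresentation) w)
    (hw₃ : AlgSt.RepByAlgSpWith AlgSp.IsSurjectiveMor w)
    (hw₄ : AlgSt.RepByAlgSpWith (AlgSp.LocP R) w) :
    AlgSt.RepByAlgSpWith (AlgSp.LocP R) (FibCat.diag (FibCat.toSelf 𝒳)) := by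
  have hg := h𝒳.isStack.1
  have hz := isFibGrpd_of_rep h𝒲
  let t := FibCat.toSelf 𝒳
  refine with_of_fpFst_cover (z := pair (Iso.refl (BasedFunctor.comp w t)) (Iso.refl (BasedFunctor.comp w t)))
    pbP_locP hR hg (fp_isFibGrpd hg hg selfOver_isFibGrpd _ _)
    (fp_isFibGrpd hz hz selfOver_isFibGrpd _ _) h𝒳.diag
    (with_fp_map_gen goodP_locP hg selfOver_isFibGrpd t t hz hz hw₁ hw₁)
    (with_fp_map_gen goodP_locP hg selfOver_isFibGrpd t t hz hz hw₂ hw₂)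
    (with_fp_map_gen goodP_surjective hg selfOver_isFibGrpd t t hz hz hw₃ hw₃)
    ((with_cmp_iff (wrIso (FibCat.fpIso w w) t) (fun _ => rfl)).2 ?_)
  have hk : AlgSt.RepByAlgSp1 (BasedFunctor.comp w t) := rep1_of_rep h𝒲 rep_selfOver _
  exact with_of_comp (g := FibCat.fpFst (BasedFunctor.comp w t) (BasedFunctor.comp w t)) goodP_locP
    (fp_isFibGrpd hz hz hg _ _) (fp_isFibGrpd hz hz selfOver_isFibGrpd _ _) hz
    (with_of_iso (Iso.refl _) (with_fpFst w hw₄))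
    (with_diag_of_rep1 pbP_locP (repByAlgSp1_iff.1 (rep1_fpFst _ hk)) fun _ hX _ a _ => hd hX a)

theorem lft_diag_toSelf (h𝒳 : AlgSt.IsAlgStack Scheme.fppfPrecoverage 𝒳) :
    AlgSt.RepByAlgSpWith (AlgSp.LocP @LocallyOfFiniteType) (FibCat.diag (FibCat.toSelf 𝒳)) := by
  obtain ⟨U, x, hsm, hsurj⟩ := h𝒳.atlas
  exact diag_toSelf_of_cover isLocalOnBase_fppf_locP_lft
    (fun _ hX _ a => locP_mono lftUnram_le_lft (locP_lftUnram_diagonal hX a)) h𝒳 (rep_overCat U)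
    (with_locP_mono smooth_le_flat hsm) (with_locP_mono smooth_le_lfp hsm) hsurj (with_locP_mono smooth_le_lft hsm)

theorem lft_diag (h𝒳 : AlgSt.IsAlgStack Scheme.fppfPrecoverage 𝒳)
    (h𝒴 : AlgSt.IsAlgStack Scheme.fppfPrecoverage 𝒴) (f : 𝒳 ⥤ᵇ 𝒴) :
    AlgSt.RepByAlgSpWith (AlgSp.LocP @LocallyOfFiniteType) (FibCat.diag f) :=
  with_diag_of_comp (g := FibCat.toSelf 𝒴) (Q := ⊤) goodP_locP pbP_locP h𝒳.isStack.1 h𝒴.isStack.1
    selfOver_isFibGrpd (with_diag_of_iso (eqToIso (selfOver_functor_eq _ _)) (lft_diag_toSelf h𝒳))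
    (repByAlgSp1_iff.1 h𝒴.diag) fun _ hX _ a _ => locP_mono lftUnram_le_lft (locP_lftUnram_diagonal hX a)

lemma desc_of_local (hP : AlgSp.IsLocalOnBase AlgSp.IsFppfCover P)
    {G X : AlgSp.Sp S} (hG : AlgSp.IsAlgSpace G) (hX : AlgSp.IsAlgSpace X) (a : G ⟶ X)
    (h : AlgSp.RepBySpWith P a.hom) : P a := by
  obtain ⟨V, p, he, hs⟩ := hX.atlas
  have sq := IsPullback.of_hasPullback a p
  have h' := (AlgSp.repBySpWith_hom_iff P a).1 h p _ _ sq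
  exact (hP (ι := PUnit.{u + 1}) (fun _ => (AlgSp.yon S).obj V) (fun _ => p) hX
    (fun _ => AlgSp.IsAlgSpace.yon_obj V)
    ⟨fun _ => ⟨AlgSpace.locP_of_repWith hX (AlgSpace.repWith_mono AlgSpace.etale_le_flat he),
      AlgSpace.locP_of_repWith hX (AlgSpace.repWith_mono AlgSpace.etale_le_lfp he)⟩,
      fun x => ⟨PUnit.unit, AlgSpace.surjective_map_of_repWith hs x⟩⟩ a hG
    (fun _ => pullback a p) (fun _ => pullback.snd a p) (fun _ => pullback.fst a p)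
    (fun _ => h'.1) (fun _ => sq)).2 (fun _ => h'.2)

/-- the base change of a representable functor to an algebraic space -/
theorem exists_baseChange_space (hPb : PbP P) (hP : AlgSp.IsLocalOnBase AlgSp.IsFppfCover P)
    (h𝒳 : FibCat.IsFibGrpd 𝒳.p) (h𝒴 : FibCat.IsFibGrpd 𝒴.p) {f : 𝒳 ⥤ᵇ 𝒴}
    (hf : AlgSt.RepByAlgSpWith P f) (Z : AlgSp.Space S) (z : AlgSt.ofSp Z.obj ⥤ᵇ 𝒴) :
    ∃ (V : AlgSp.Space S) (a : V ⟶ Z) (e : AlgSt.ofSp V.obj ⥤ᵇ FibCat.fp z f),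
      FibCat.IsEquivOver e ∧
        Nonempty (BasedFunctor.comp e (FibCat.fpFst z f) ≅ AlgSt.ofSpMap a.hom) ∧ P a.hom := by
  obtain ⟨G, a, e, he, hi, hra, hr⟩ := exists_rep_over h𝒳 h𝒴 (repByAlgSp1_of_with hf) z
  obtain ⟨hG, hGA⟩ := AlgSpace.isAlgSpaceP_of_repBySp a hra ((AlgSp.isAlgSpaceP_obj_iff _).2 Z.property)
  exact ⟨⟨⟨G, hG⟩, hGA⟩, ObjectProperty.homMk (ObjectProperty.homMk a), e, he, hi,
    desc_of_local hP hGA Z.property _ (hr P (preIso_of_pullback hPb) hf)⟩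

theorem with_fpFst_of_baseChange_space (hPb : PbP P) {f : 𝒳 ⥤ᵇ 𝒴} {Z V : AlgSp.Space S}
    {z : AlgSt.ofSp Z.obj ⥤ᵇ 𝒴} {a : V ⟶ Z} {e : AlgSt.ofSp V.obj ⥤ᵇ FibCat.fp z f}
    (he : FibCat.IsEquivOver e) (i : BasedFunctor.comp e (FibCat.fpFst z f) ≅ AlgSt.ofSpMap a.hom)
    (ha : P a.hom) : AlgSt.RepByAlgSpWith P (FibCat.fpFst z f) :=
  (with_congr (f := FibCat.fpFst z f) (f' := AlgSt.ofSpMap a.hom) (a := e) (b := BasedFunctor.id _) he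
    isEquivOver_id i.symm).2 (with_ofPshMap (repBySpWith_of_space hPb V.property Z.property ha))

theorem with_iff_baseChange_cover (hPb : PbP P) (hP : AlgSp.IsLocalOnBase AlgSp.IsFppfCover P)
    (h𝒳 : FibCat.IsFibGrpd 𝒳.p) (h𝒴 : FibCat.IsFibGrpd 𝒴.p) {f : 𝒳 ⥤ᵇ 𝒴}
    (hf : AlgSt.RepByAlgSp1 f) (W : AlgSp.Space S) (w : AlgSt.ofSp W.obj ⥤ᵇ 𝒴)
    (hw₁ : AlgSt.RepByAlgSpWith (AlgSp.LocP @Flat) w)
    (hw₂ : AlgSt.RepByAlgSpWith (AlgSp.LocP @LocallyOfFinitePresentation) w)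
    (hw₃ : AlgSt.RepByAlgSpWith AlgSp.IsSurjectiveMor w) :
    AlgSt.RepByAlgSpWith P f ↔
      ∃ (V : AlgSp.Space S) (a : V ⟶ W) (e : AlgSt.ofSp V.obj ⥤ᵇ FibCat.fp w f),
        FibCat.IsEquivOver e ∧
          Nonempty (BasedFunctor.comp e (FibCat.fpFst w f) ≅ AlgSt.ofSpMap a.hom) ∧ P a.hom := by
  refine ⟨fun h => exists_baseChange_space hPb hP h𝒳 h𝒴 h W w, ?_⟩
  rintro ⟨V, a, e, he, ⟨i⟩, ha⟩
  exact with_of_fpFst_cover hPb hP h𝒳 h𝒴 (isStack_ofSp W.obj).1 hf hw₁ hw₂ hw₃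
    (with_fpFst_of_baseChange_space hPb he i ha)

theorem with_iff_forall_baseChange (hPb : PbP P) (hP : AlgSp.IsLocalOnBase AlgSp.IsFppfCover P)
    (h𝒳 : FibCat.IsFibGrpd 𝒳.p) (h𝒴 : FibCat.IsFibGrpd 𝒴.p) (f : 𝒳 ⥤ᵇ 𝒴) :
    AlgSt.RepByAlgSpWith P f ↔
      ∀ (Z : AlgSp.Space S) (z : AlgSt.ofSp Z.obj ⥤ᵇ 𝒴),
        ∃ (V : AlgSp.Space S) (a : V ⟶ Z) (e : AlgSt.ofSp V.obj ⥤ᵇ FibCat.fp z f),
          FibCat.IsEquivOver e ∧
            Nonempty (BasedFunctor.comp e (FibCat.fpFst z f) ≅ AlgSt.ofSpMap a.hom) ∧ P a.hom := by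
  refine ⟨fun h Z z => exists_baseChange_space hPb hP h𝒳 h𝒴 h Z z, fun h U y => ?_⟩
  obtain ⟨V, a, e, he, ⟨i⟩, ha⟩ := h ⟨_, AlgSp.IsAlgSpace.yon_obj U⟩ (BasedFunctor.comp (AlgSt.toOverCat U) y)
  haveI := idFun_full (𝒳 := 𝒴)
  haveI := idFun_faithful (𝒳 := 𝒴)
  refine repOf_of_equiv (E := BasedFunctor.comp e (fpMap (a := AlgSt.toOverCat U) (b := BasedFunctor.id 𝒳)
      (s := BasedFunctor.id 𝒴) (F := BasedFunctor.comp (AlgSt.toOverCat U) y) (G := f) (F' := y) (G' := f)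
      (Iso.refl _) (Iso.refl _))) (isEquivOver_comp he (fpMap_isEquivOver _ _ (toOverCat_isEquivOver U) isEquivOver_id))
    ?_ (repOf_ofPsh_of a.hom.hom (h := V.obj.property) V.property ha)
  exact wrIso i (AlgSt.toOverCat U)

/-- descent along a functor that is locally essentially surjective -/
theorem with_of_fpFst_locally_essSurj (hPb : PbP P) (hP : AlgSp.IsLocalOnBase AlgSp.IsFppfCover P)
    (h𝒳 : FibCat.IsFibGrpd 𝒳.p) (h𝒴 : FibCat.IsFibGrpd 𝒴.p) {f : 𝒳 ⥤ᵇ 𝒴} (hf : AlgSt.RepByAlgSp1 f)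
    {g : 𝒵 ⥤ᵇ 𝒴}
    (hg : ∀ (U : Over S) (y : FibCat.overCat U ⥤ᵇ 𝒴), ∃ R ∈ (QuotSh.J Scheme.fppfPrecoverage S) U,
      ∀ ⦃V : Over S⦄ (h : V ⟶ U), R.arrows h →
        ∃ z : FibCat.overCat V ⥤ᵇ 𝒵, Nonempty (BasedFunctor.comp z g ≅ BasedFunctor.comp (AlgSt.overMap h) y))
    (h : AlgSt.RepByAlgSpWith P (FibCat.fpFst g f)) : AlgSt.RepByAlgSpWith P f := fun U y => by
  obtain ⟨R, hR, hR'⟩ := hg U y
  obtain ⟨𝒰, h𝒰⟩ := (AlgSpace.mem_J_iff R).1 hR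
  have hcov := (Scheme.ofArrows_mem_precoverage_iff (@Flat ⊓ @LocallyOfFinitePresentation)).1 𝒰.mem₀
  refine repOf_of_cover hPb hP h𝒳 h𝒴 hf y (fun i => Over.mk (𝒰.f i ≫ U.hom))
    (fun i => AlgSpace.overArrow (U := U) (𝒰.f i)) ⟨fun i => ?_, fun x => ?_⟩ fun i => ?_
  · have hr : ∀ {Q : MorphismProperty Scheme.{u}} [Q.IsStableUnderBaseChange], Q (𝒰.f i) →
        AlgSp.RepWith Q ((AlgSp.yon S).map (AlgSpace.overArrow (U := U) (𝒰.f i))) :=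
      fun hQ => (AlgSp.repWith_yon_map_iff _ _).2 hQ
    exact ⟨AlgSpace.locP_of_repWith (AlgSp.IsAlgSpace.yon_obj U) (hr (hcov.2 i).1),
      AlgSpace.locP_of_repWith (AlgSp.IsAlgSpace.yon_obj U) (hr (hcov.2 i).2)⟩
  · obtain ⟨t, rfl⟩ := (AlgSp.Points.schemeHomeo U).surjective x
    obtain ⟨i, s, rfl⟩ := hcov.1 t
    exact ⟨i, AlgSp.Points.schemeHomeo _ s,
      AlgSp.Points.map_yon_map_apply (AlgSpace.overArrow (U := U) (𝒰.f i)) s⟩
  · obtain ⟨z, ⟨j⟩⟩ := hR' _ ((AlgSpace.overEquiv_arrow R _).1 (h𝒰 i))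
    exact repOf_left j.symm (repOf_of_equiv (pasteL_isEquivOver z g f) (Iso.refl _) (h _ z))

/-- conditions on the diagonal descend along covers of the target -/
theorem with_diag_of_fpFst_cover (hPb : PbP P) (hP : AlgSp.IsLocalOnBase AlgSp.IsFppfCover P)
    (h𝒳 : FibCat.IsFibGrpd 𝒳.p) (h𝒴 : FibCat.IsFibGrpd 𝒴.p) (h𝒵 : FibCat.IsFibGrpd 𝒵.p) {f : 𝒳 ⥤ᵇ 𝒴}
    (hf : AlgSt.RepByAlgSp1 (FibCat.diag f)) {w : 𝒵 ⥤ᵇ 𝒴}
    (hw₁ : AlgSt.RepByAlgSpWith (AlgSp.LocP @Flat) w)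
    (hw₂ : AlgSt.RepByAlgSpWith (AlgSp.LocP @LocallyOfFinitePresentation) w)
    (hw₃ : AlgSt.RepByAlgSpWith AlgSp.IsSurjectiveMor w)
    (h : AlgSt.RepByAlgSpWith P (FibCat.diag (FibCat.fpFst w f))) :
    AlgSt.RepByAlgSpWith P (FibCat.diag f) := fun U y => by
  obtain ⟨V, k, v, hc, ⟨j⟩⟩ := exists_cover_lift h𝒴 h𝒵 hw₁ hw₂ hw₃ U
    (BasedFunctor.comp (BasedFunctor.comp y (FibCat.fpFst f f)) f)
  refine repOf_of_cover hPb hP h𝒳 (fp_isFibGrpd h𝒳 h𝒳 h𝒴 f f) hf y (fun _ => V) (fun _ => k) hc fun _ => ?_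
  let y₀ := BasedFunctor.comp (AlgSt.overMap k) y
  let s₁ : FibCat.overCat V ⥤ᵇ FibCat.fp w f :=
    FibCat.fpLift v (BasedFunctor.comp y₀ (FibCat.fpFst f f)) j.symm
  let s₂ : FibCat.overCat V ⥤ᵇ FibCat.fp w f :=
    FibCat.fpLift v (BasedFunctor.comp y₀ (FibCat.fpSnd f f)) (j.symm ≪≫ wlIso y₀ (FibCat.fpIso f f))
  let y' : FibCat.overCat V ⥤ᵇ FibCat.fp (FibCat.fpFst w f) (FibCat.fpFst w f) :=
    FibCat.fpLift s₁ s₂ (Iso.refl _)
  have h1 : AlgSt.RepByAlgSpWith P (FibCat.fpFst (bcMap f w) (FibCat.diag f)) :=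
    (with_congr (f := FibCat.fpFst (bcMap f w) (FibCat.diag f)) (f' := FibCat.diag (FibCat.fpFst w f))
      (a := bcFun f w) (b := BasedFunctor.id _) (bcFun_isEquivOver f w) isEquivOver_id (Iso.refl _)).2 h
  let i : y₀ ≅ BasedFunctor.comp y' (bcMap f w) :=
    BasedNatIso.mkNatIso
      (NatIso.ofComponents (fun a => fpIsoMk (Iso.refl _) (Iso.refl _) (by
        let q : w.obj (v.obj a) ≅ f.obj (y₀.obj a).obj.fst := appIso j.symm a
        show f.map (𝟙 _) ≫ (q.inv ≫ w.map (𝟙 _) ≫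
          q.hom ≫ (y₀.obj a).obj.iso.hom) = (y₀.obj a).obj.iso.hom ≫ f.map (𝟙 _)
        simp
        )) (fun {a b} φ => fp_hom_ext
          (by show (y₀.map φ).hom.fst ≫ 𝟙 _ = 𝟙 _ ≫ (y₀.map φ).hom.fst; simp)
          (by show (y₀.map φ).hom.snd ≫ 𝟙 _ = 𝟙 _ ≫ (y₀.map φ).hom.snd; simp)))
      (fun a => @isHomLift_of_fst _ _ _ _ _ _ _ _ _ _ _ _ _ (IsHomLift.id (y₀.w_obj a)))
  exact repOf_left i (repOf_of_equiv (pasteL_isEquivOver y' (bcMap f w) (FibCat.diag f)) (Iso.refl _) (h1 V y'))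

section Local

open Groth.Agent.AlgSpDescent

lemma isLocalOnBase_fppf_locP_unramified :
    AlgSp.IsLocalOnBase (AlgSp.IsFppfCover (S := S)) (AlgSp.LocP (@LocallyOfFiniteType ⊓ @FormallyUnramified)) :=
  isLocalOnBase_fppf_of_fpqc (isLocalOnBase_fpqc_locP precompEtale_unramified
    (descendsEtaleSource_inf descendsEtaleSource_locallyOfFiniteType descendsEtaleSource_formallyUnramified))

lemma isLocalOnBase_fppf_locP_lqf :
    AlgSp.IsLocalOnBase (AlgSp.IsFppfCover (S := S)) (AlgSp.LocP (@LocallyQuasiFinite ⊓ @LocallyOfFiniteType)) :=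
  isLocalOnBase_fppf_of_fpqc (isLocalOnBase_fpqc_locP precompEtale_lqf
    (descendsEtaleSource_inf descendsEtaleSource_locallyQuasiFinite descendsEtaleSource_locallyOfFiniteType))

lemma isLocalOnBase_fppf_qcqs :
    AlgSp.IsLocalOnBase (AlgSp.IsFppfCover (S := S)) (AlgSp.IsQuasiCompactMor ⊓ AlgSp.IsQuasiSeparatedMor) :=
  isLocalOnBase_fppf_of_fpqc (isLocalOnBase_and isLocalOnBase_fpqc_isQuasiCompactMor
    isLocalOnBase_fpqc_isQuasiSeparatedMor)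

end Local

end Groth.Agent.StAlg
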