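import Groth.Agent.Lib.FC16.StackPsh
import Groth.Agent.Lib.FC16.Setoid
import Groth.Agent.Lib.FC16.Repr
import Groth.Agent.Lib.FC16.Stack
import Mathlib.CategoryTheory.Limits.Types.Pullbacks
import Mathlib.CategoryTheory.Limits.FunctorCategory.Basic
import Mathlib.CategoryTheory.Limits.Shapes.Pullback.IsPullback.Basic

/-! Presheaves of sets and their categories over the base. -/

universe w v₃ u₃ v₂ u₂ v u

open CategoryTheory CategoryTheory.Functor Opposite CategoryTheory.Limits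

set_option linter.style.haveILetI false
set_option linter.unusedSimpArgs false
set_option linter.unusedSectionVars false
set_option backward.isDefEq.respectTransparency false
set_option backward.isDefEq.respectTransparency.types false

namespace Groth.Agent.StAlg

open Groth.Agent.FC16

variable {C : Type u} [Category.{v} C] {P Q R : Cᵒᵖ ⥤ Type w}

lemma map_eqToHom_hom {X Y : C} (h : X = Y) {F : Cᵒᵖ ⥤ Type w} (x : F.obj (op Y)) :
    F.map (eqToHom h).op x = (congrArg (fun T => F.obj (op T)) h.symm) ▸ x := by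
  subst h; simp

/-- the map of presheaves underlying a functor over the base -/
def mapOf (Φ : Stk.ofPsh P ⥤ᵇ Stk.ofPsh Q) : P ⟶ Q where
  app T := ↾fun x => pval Φ ⟨T.unop, x⟩
  naturality {T T'} g := by
    ext x
    exact (pval_nat Φ (⟨g.unop, rfl⟩ : (⟨T'.unop, P.map g x⟩ : (Stk.ofPsh P).obj) ⟶ ⟨T.unop, x⟩)).symm

lemma mapOf_app (Φ : Stk.ofPsh P ⥤ᵇ Stk.ofPsh Q) (a : (Stk.ofPsh P).obj) :
    (mapOf Φ).app (op a.base) a.sec = pval Φ a := rfl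

lemma pval_ofPshMap {𝒜 : BasedCategory.{v₂, u₂} C} (s : 𝒜 ⥤ᵇ Stk.ofPsh P) (φ : P ⟶ Q) (a : 𝒜.obj) :
    pval (BasedFunctor.comp s (Stk.ofPshMap φ)) a = φ.app _ (pval s a) := by
  unfold pval
  show Q.map (eqToHom (s.w_obj a).symm).op (φ.app _ (s.obj a).sec) = _
  exact (NatTrans.naturality_apply φ (eqToHom (s.w_obj a).symm).op (s.obj a).sec).symm

lemma pval_id (a : (Stk.ofPsh P).obj) : pval (BasedFunctor.id (Stk.ofPsh P)) a = a.sec := by
  unfold pval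
  show P.map (eqToHom rfl).op a.sec = _
  simp

lemma pval_ofPshMap' (φ : P ⟶ Q) (a : (Stk.ofPsh P).obj) : pval (Stk.ofPshMap φ) a = φ.app _ a.sec := by
  unfold pval
  show Q.map (eqToHom rfl).op (φ.app _ a.sec) = _
  simp

lemma pval_comp {𝒜 : BasedCategory.{v₂, u₂} C} (s : 𝒜 ⥤ᵇ Stk.ofPsh P) (Φ : Stk.ofPsh P ⥤ᵇ Stk.ofPsh Q)
    (a : 𝒜.obj) : pval (BasedFunctor.comp s Φ) a = (mapOf Φ).app _ (pval s a) := by
  have h := mapOf_app Φ (s.obj a)
  have e := (NatTrans.naturality_apply (mapOf Φ) (eqToHom (s.w_obj a).symm).op (s.obj a).sec).symm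
  refine Eq.trans ?_ e
  refine Eq.trans ?_ (congrArg (Q.map (eqToHom (s.w_obj a).symm).op) h).symm
  unfold pval
  refine Eq.trans ?_ (map2 _ _ _).symm
  show Q.map (eqToHom _).op (Φ.obj (s.obj a)).sec = _
  erw [eqToHom_trans]
  rfl

lemma app_app {φ : P ⟶ Q} {ψ : Q ⟶ R} {χ : P ⟶ R} (h : φ ≫ ψ = χ) (T : Cᵒᵖ) (x : P.obj T) :
    ψ.app T (φ.app T x) = χ.app T x := by subst h; rfl

lemma mapOf_congr {Φ Ψ : Stk.ofPsh P ⥤ᵇ Stk.ofPsh Q} (e : Φ ≅ Ψ) : mapOf Φ = mapOf Ψ := by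
  ext T x
  exact pval_hom e.hom ⟨T.unop, x⟩

lemma mapOf_ofPshMap (φ : P ⟶ Q) : mapOf (Stk.ofPshMap φ) = φ := by
  ext T x
  exact pval_ofPshMap' φ ⟨T.unop, x⟩

lemma mapOf_id : mapOf (BasedFunctor.id (Stk.ofPsh P)) = 𝟙 P := by
  ext T x
  exact pval_id ⟨T.unop, x⟩

lemma mapOf_comp (Φ : Stk.ofPsh P ⥤ᵇ Stk.ofPsh Q) (Ψ : Stk.ofPsh Q ⥤ᵇ Stk.ofPsh R) :
    mapOf (BasedFunctor.comp Φ Ψ) = mapOf Φ ≫ mapOf Ψ := by
  ext T x
  exact pval_comp Φ Ψ ⟨T.unop, x⟩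

/-- every functor between categories of presheaves is induced by a map -/
def isoMapOf (Φ : Stk.ofPsh P ⥤ᵇ Stk.ofPsh Q) : Φ ≅ Stk.ofPshMap (mapOf Φ) :=
  isoOfPval fun a => by rw [pval_ofPshMap', mapOf_app]

lemma isIso_mapOf {Φ : Stk.ofPsh P ⥤ᵇ Stk.ofPsh Q} (h : FibCat.IsEquivOver Φ) : IsIso (mapOf Φ) := by
  obtain ⟨Ψ, -, ⟨e₁⟩, ⟨e₂⟩⟩ := exists_inverse h
  exact ⟨mapOf Ψ, by rw [← mapOf_comp, mapOf_congr e₁, mapOf_id],
    by rw [← mapOf_comp, mapOf_congr e₂, mapOf_id]⟩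

lemma ofPshMap_isEquivOver (φ : P ⟶ Q) [IsIso φ] : FibCat.IsEquivOver (Stk.ofPshMap φ) := by
  refine ⟨Stk.ofPshMap (inv φ), ⟨?_⟩, ⟨?_⟩⟩
  · exact isoOfPval fun a => by rw [pval_ofPshMap, pval_ofPshMap', pval_id]; exact app_app (by simp : _ ≫ _ = 𝟙 _) _ _
  · exact isoOfPval fun a => by rw [pval_ofPshMap, pval_ofPshMap', pval_id]; exact app_app (by simp : _ ≫ _ = 𝟙 _) _ _

lemma ofPsh_hom_ext {R S : C} (f : R ⟶ S) {a b : (Stk.ofPsh P).obj} (φ ψ : a ⟶ b)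
    [hφ : (Stk.ofPsh P).p.IsHomLift f φ] [hψ : (Stk.ofPsh P).p.IsHomLift f ψ] : φ = ψ :=
  Stk.EltObj.hom_ext ((IsHomLift.fac' (Stk.ofPsh P).p f φ).trans (IsHomLift.fac' (Stk.ofPsh P).p f ψ).symm)

lemma isFibSetoid_ofPsh : FibCat.IsFibSetoid (Stk.ofPsh P).p :=
  ⟨Stk.isFibGrpd_ofPsh P, fun U a b => ⟨fun φ ψ => Subtype.ext (by
    haveI := φ.2; haveI := ψ.2
    exact ofPsh_hom_ext (𝟙 U) φ.1 ψ.1)⟩⟩

section Pullback

variable {P₀ A B D : Cᵒᵖ ⥤ Type w} {f : P₀ ⟶ A} {g : P₀ ⟶ B} {a : A ⟶ D} {b : B ⟶ D}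

/-- the category of a fibre product of presheaves, to the fibre product of categories -/
noncomputable def pbFun (w : f ≫ a = g ≫ b) :
    Stk.ofPsh P₀ ⥤ᵇ FibCat.fp (Stk.ofPshMap a) (Stk.ofPshMap b) :=
  FibCat.fpLift (Stk.ofPshMap f) (Stk.ofPshMap g) (isoOfPval fun x => by
    rw [pval_ofPshMap, pval_ofPshMap, pval_ofPshMap', pval_ofPshMap']
    exact (app_app rfl _ _).trans ((app_app w.symm _ _).symm))

lemma pbFun_isEquivOver (h : IsPullback f g a b) : FibCat.IsEquivOver (pbFun h.w) := by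
  haveI : (pbFun h.w).toFunctor.Faithful := ⟨fun {x y φ ψ} e =>
    Stk.EltObj.hom_ext (congrArg (fun t => t.hom.fst.hom) e)⟩
  have hT : ∀ T : Cᵒᵖ, IsPullback (f.app T) (g.app T) (a.app T) (b.app T) := fun T =>
    h.map ((evaluation Cᵒᵖ (Type w)).obj T)
  have hinj : ∀ (T : Cᵒᵖ) (x y : P₀.obj T), f.app T x = f.app T y → g.app T x = g.app T y → x = y :=
    fun T x y h1 h2 => ((Types.isPullback_iff _ _ _ _).1 (hT T)).2.1 x y ⟨h1, h2⟩
  haveI : (pbFun h.w).toFunctor.Full := ⟨fun {x y} φ => by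
    let k : x.base ⟶ y.base := φ.hom.fst.hom
    have e1 : A.map k.op (f.app _ y.sec) = f.app _ x.sec := φ.hom.fst.map_sec
    have e2 : φ.hom.snd.hom = k := by
      haveI : ((FibCat.fp (Stk.ofPshMap a) (Stk.ofPshMap b))).p.IsHomLift k φ := IsHomLift.map _ φ
      haveI := isHomLift_snd k φ
      exact ((IsHomLift.fac' (Stk.ofPsh B).p k φ.hom.snd).trans (by simp))
    have e3 : B.map k.op (g.app _ y.sec) = g.app _ x.sec := by
      have := φ.hom.snd.map_sec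
      rw [e2] at this
      exact this
    have e : P₀.map k.op y.sec = x.sec := hinj _ _ _
      ((NatTrans.naturality_apply f k.op y.sec).trans e1) ((NatTrans.naturality_apply g k.op y.sec).trans e3)
    exact ⟨⟨k, e⟩, fp_hom_ext (Stk.EltObj.hom_ext rfl) (Stk.EltObj.hom_ext e2.symm)⟩⟩
  refine isEquivOver_of _ fun η => ?_
  let T := η.obj.fst.base
  have hb : η.obj.snd.base = T := snd_p η
  haveI hl := iso_lift η (U := T) rfl
  have hhom : η.obj.iso.hom.hom = eqToHom hb.symm := by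
    refine (IsHomLift.fac' (Stk.ofPsh D).p (𝟙 T) η.obj.iso.hom).trans ?_
    simp
  let y : B.obj (op T) := B.map (eqToHom hb.symm).op η.obj.snd.sec
  have hab : a.app _ η.obj.fst.sec = b.app _ y := by
    have hms : D.map η.obj.iso.hom.hom.op (b.app _ η.obj.snd.sec) = a.app _ η.obj.fst.sec := η.obj.iso.hom.map_sec
    rw [hhom] at hms
    exact hms.symm.trans (NatTrans.naturality_apply b (eqToHom hb.symm).op η.obj.snd.sec).symm
  obtain ⟨x, hx1, hx2⟩ := ((Types.isPullback_iff _ _ _ _).1 (hT (op T))).2.2 η.obj.fst.sec y hab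
  let i : (⟨T, f.app _ x⟩ : (Stk.ofPsh A).obj) ≅ η.obj.fst :=
    { hom := ⟨𝟙 T, by rw [op_id, A.map_id]; exact hx1.symm⟩
      inv := ⟨𝟙 T, by rw [op_id, A.map_id]; exact hx1⟩
      hom_inv_id := Stk.EltObj.hom_ext (Category.id_comp _)
      inv_hom_id := Stk.EltObj.hom_ext (Category.id_comp _) }
  let j : (⟨T, g.app _ x⟩ : (Stk.ofPsh B).obj) ≅ η.obj.snd :=
    { hom := ⟨eqToHom hb.symm, hx2.symm⟩
      inv := ⟨eqToHom hb, by rw [hx2]; exact (map2 _ _ _).trans (by simp)⟩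
      hom_inv_id := Stk.EltObj.hom_ext (eqToHom_trans hb.symm hb)
      inv_hom_id := Stk.EltObj.hom_ext (eqToHom_trans hb hb.symm) }
  refine ⟨⟨T, x⟩, fpIsoMk i j ?_, ?_⟩
  · apply Stk.EltObj.hom_ext
    show 𝟙 T ≫ η.obj.iso.hom.hom = _ ≫ eqToHom hb.symm
    rw [hhom, Category.id_comp]
    exact (Category.id_comp _).symm
  · exact @isHomLift_of_fst _ _ _ _ _ _ _ _ _ _ _ _ _ (IsHomLift.of_fac' (Stk.ofPsh A).p _ _ rfl rfl (by simp [i]; rfl))

end Pullback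

/-- isomorphism of functors into a fibre product over a presheaf -/
noncomputable def isoToPshFp {ℬ : BasedCategory.{v₂, u₂} C} {ℬ' : BasedCategory.{v₂, u₂} C}
    {𝒜 : BasedCategory.{v₃, u₃} C} {F : ℬ ⥤ᵇ Stk.ofPsh R} {G : ℬ' ⥤ᵇ Stk.ofPsh R}
    {A B : 𝒜 ⥤ᵇ FibCat.fp F G}
    (i : BasedFunctor.comp A (FibCat.fpFst F G) ≅ BasedFunctor.comp B (FibCat.fpFst F G))
    (j : BasedFunctor.comp A (FibCat.fpSnd F G) ≅ BasedFunctor.comp B (FibCat.fpSnd F G)) : A ≅ B :=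
  BasedNatIso.mkNatIso
    (NatIso.ofComponents (fun w => fpIsoMk (appIso i w) (appIso j w) (by
        haveI h1 : ℬ.p.IsHomLift (𝟙 (𝒜.p.obj w)) (appIso i w).hom := isHomLift_appIso_hom i w rfl
        haveI h2 : ℬ'.p.IsHomLift (𝟙 (𝒜.p.obj w)) (appIso j w).hom := isHomLift_appIso_hom j w rfl
        haveI := iso_lift (A.obj w) (U := 𝒜.p.obj w) (A.w_obj w)
        haveI := iso_lift (B.obj w) (U := 𝒜.p.obj w) (B.w_obj w)
        haveI l1 : (Stk.ofPsh R).p.IsHomLift (𝟙 (𝒜.p.obj w))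
            (F.map (show (A.obj w).obj.fst ⟶ (B.obj w).obj.fst from (appIso i w).hom)) :=
          BasedFunctor.preserves_isHomLift F (𝟙 (𝒜.p.obj w)) (appIso i w).hom
        haveI l2 : (Stk.ofPsh R).p.IsHomLift (𝟙 (𝒜.p.obj w))
            (G.map (show (A.obj w).obj.snd ⟶ (B.obj w).obj.snd from (appIso j w).hom)) :=
          BasedFunctor.preserves_isHomLift G (𝟙 (𝒜.p.obj w)) (appIso j w).hom
        refine @ofPsh_hom_ext _ _ _ _ _ (𝟙 (𝒜.p.obj w)) _ _ _ _ ?_ ?_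
        · exact inferInstanceAs ((Stk.ofPsh R).p.IsHomLift (𝟙 (𝒜.p.obj w))
            (F.map (show (A.obj w).obj.fst ⟶ (B.obj w).obj.fst from (appIso i w).hom) ≫ (B.obj w).obj.iso.hom))
        · exact inferInstanceAs ((Stk.ofPsh R).p.IsHomLift (𝟙 (𝒜.p.obj w))
            ((A.obj w).obj.iso.hom ≫ G.map (show (A.obj w).obj.snd ⟶ (B.obj w).obj.snd from (appIso j w).hom)))))
      (fun {w w'} g => fp_hom_ext (i.hom.toNatTrans.naturality g) (j.hom.toNatTrans.naturality g)))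
    (fun w => @isHomLift_of_fst _ _ _ _ _ _ _ _ _ _ _ _ _ (isHomLift_appIso_hom i w rfl))

section OfSetoid

variable {𝒳 : BasedCategory.{v, max w u} C}

/-- a category fibred in setoids is equivalent to the category of a presheaf -/
theorem exists_psh (h : FibCat.IsFibSetoid 𝒳.p) :
    ∃ (G : Cᵒᵖ ⥤ Type (max w u)) (e : Stk.ofPsh G ⥤ᵇ 𝒳), FibCat.IsEquivOver e := by
  haveI := isFibered h.1
  let r : ∀ T : C, Setoid {x : 𝒳.obj // 𝒳.p.obj x = T} := fun T =>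
    ⟨fun a b => ∃ e : a.1 ≅ b.1, 𝒳.p.IsHomLift (𝟙 T) e.hom,
      fun a => ⟨Iso.refl _, IsHomLift.id a.2⟩,
      fun {a b} ⟨e, he⟩ => ⟨e.symm, haveI := he; inferInstanceAs (𝒳.p.IsHomLift (𝟙 T) e.inv)⟩,
      fun {a b c} ⟨e, he⟩ ⟨e', he'⟩ => ⟨e ≪≫ e', haveI := he; haveI := he'
        inferInstanceAs (𝒳.p.IsHomLift (𝟙 T) (e.hom ≫ e'.hom))⟩⟩
  let pb : ∀ {T S : C} (f : T ⟶ S), {x : 𝒳.obj // 𝒳.p.obj x = S} → {x : 𝒳.obj // 𝒳.p.obj x = T} :=
    fun f a => ⟨IsPreFibered.pullbackObj a.2 f, IsPreFibered.pullbackObj_proj a.2 f⟩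
  have key : ∀ {T S : C} (f : T ⟶ S) (a : {x : 𝒳.obj // 𝒳.p.obj x = T}) (b : {x : 𝒳.obj // 𝒳.p.obj x = S})
      (φ : a.1 ⟶ b.1) [𝒳.p.IsHomLift f φ], (r T).r (pb f b) a := by
    intro T S f a b φ _
    haveI := Groth.Agent.FC16.isStronglyCartesian h.1 f φ
    exact ⟨(IsCartesian.domainUniqueUpToIso 𝒳.p f φ (IsPreFibered.pullbackMap b.2 f)),
      IsCartesian.map_isHomLift 𝒳.p f φ (IsPreFibered.pullbackMap b.2 f)⟩
  have wd : ∀ {T S : C} (f : T ⟶ S) (a b : {x : 𝒳.obj // 𝒳.p.obj x = S}), (r S).r a b →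
      (r T).r (pb f a) (pb f b) := by
    intro T S f a b hab
    obtain ⟨e, he⟩ := hab
    haveI := he
    exact (r T).iseqv.symm (key f (pb f a) b (IsPreFibered.pullbackMap a.2 f ≫ e.hom))
  let G : Cᵒᵖ ⥤ Type (max w u) :=
    { obj := fun T => Quotient (r T.unop)
      map := fun {S T} f => ↾(Quotient.map (sa := r S.unop) (sb := r T.unop) (pb f.unop) (fun a b hab => wd f.unop a b hab))
      map_id := fun T => by
        ext q
        induction q using Quotient.inductionOn with | _ a =>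
        exact Quotient.sound (@key _ _ (𝟙 T.unop) a a (𝟙 a.1) (IsHomLift.id a.2))
      map_comp := fun {S T U} f g => by
        ext q
        induction q using Quotient.inductionOn with | _ a =>
        exact Quotient.sound (key (g.unop ≫ f.unop) (pb g.unop (pb f.unop a)) a
          (IsPreFibered.pullbackMap (pb f.unop a).2 g.unop ≫ IsPreFibered.pullbackMap a.2 f.unop)) }
  let F : 𝒳 ⥤ᵇ Stk.ofPsh G := ofFamily (fun a => Quotient.mk (r (𝒳.p.obj a)) ⟨a, rfl⟩)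
    (fun {a b} g => Quotient.sound (@key _ _ (𝒳.p.map g) ⟨a, rfl⟩ ⟨b, rfl⟩ g (IsHomLift.map 𝒳.p g)))
  haveI : F.toFunctor.Faithful := ⟨fun {a b φ ψ} e => by
    have e' : 𝒳.p.map φ = 𝒳.p.map ψ := congrArg Stk.EltObj.Hom.hom e
    haveI := IsHomLift.map 𝒳.p φ
    haveI : 𝒳.p.IsHomLift (𝒳.p.map φ) ψ := by rw [e']; exact IsHomLift.map 𝒳.p ψ
    exact hom_ext_of_isFibSetoid h (𝒳.p.map φ) φ ψ⟩
  haveI : F.toFunctor.Full := ⟨fun {a b} m => by
    let k : 𝒳.p.obj a ⟶ 𝒳.p.obj b := m.hom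
    obtain ⟨e, he⟩ := Quotient.exact
      (show G.map k.op (Quotient.mk (r (𝒳.p.obj b)) ⟨b, rfl⟩) = Quotient.mk (r (𝒳.p.obj a)) ⟨a, rfl⟩ from m.map_sec)
    haveI := he
    haveI : 𝒳.p.IsHomLift (𝟙 (𝒳.p.obj a)) e.inv := inferInstance
    let φ : a ⟶ b := e.inv ≫ IsPreFibered.pullbackMap (p := 𝒳.p) (a := b) rfl k
    haveI : 𝒳.p.IsHomLift k φ := inferInstanceAs
      (𝒳.p.IsHomLift k (e.inv ≫ IsPreFibered.pullbackMap (p := 𝒳.p) (a := b) rfl k))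
    exact ⟨φ, Stk.EltObj.hom_ext (IsHomLift.eq_of_isHomLift 𝒳.p k φ).symm⟩⟩
  have hF : FibCat.IsEquivOver F := isEquivOver_of F fun η => by
    obtain ⟨T, q⟩ := η
    induction q using Quotient.inductionOn with | _ a =>
    obtain ⟨x, (rfl : 𝒳.p.obj x = T)⟩ := a
    exact ⟨x, Iso.refl _, IsHomLift.id rfl⟩
  obtain ⟨e, he, -, -⟩ := exists_inverse hF
  exact ⟨G, e, he⟩

end OfSetoid

end Groth.Agent.StAlg
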