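import Groth.Agent.Lib.StAlg.Diag

/-! Stacks and algebraic stacks over a stack via representable functors. -/

universe v₅ u₅ v₄ u₄ v₃ u₃ v₂ u₂ v u

open CategoryTheory CategoryTheory.Functor CategoryTheory.Limits AlgebraicGeometry Opposite

set_option linter.style.haveILetI false
set_option linter.unusedSimpArgs false
set_option linter.unusedSectionVars false
set_option linter.unusedVariables false
set_option backward.isDefEq.respectTransparency false
set_option backward.isDefEq.respectTransparency.types false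

namespace Groth.Agent.StAlg

open Groth.Agent.FC16

section Gen

variable {C : Type u} [Category.{v} C] {𝒳 : BasedCategory.{v₂, u₂} C} {𝒴 : BasedCategory.{v₃, u₃} C}
  {𝒜 : BasedCategory.{v₄, u₄} C}

lemma isIso_basedNatTrans (h : FibCat.IsFibGrpd 𝒳.p) {F G : 𝒜 ⥤ᵇ 𝒳} (α : F ⟶ G) : IsIso α := by
  haveI : ∀ a, IsIso (α.toNatTrans.app a) := fun a =>
    haveI : 𝒳.p.IsHomLift (𝟙 (𝒜.p.obj a)) (α.toNatTrans.app a) := α.isHomLift' a
    isIso_of_isHomLift h (𝟙 (𝒜.p.obj a)) _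
  let i : F ≅ G := BasedNatIso.mkNatIso
    (NatIso.ofComponents (fun a => asIso (α.toNatTrans.app a)) (fun g => α.toNatTrans.naturality g))
    (fun a => α.isHomLift' a)
  have : α = i.hom := by
    apply BasedNatTrans.homCategory.ext
    ext a
    rfl
  rw [this]
  infer_instance

variable (J : GrothendieckTopology C)

/-- a category over a stack whose pullbacks to objects of the site are stacks is a stack -/
theorem isStack_of_fp {𝒳 : BasedCategory.{v₂, u₂} C} {𝒴 : BasedCategory.{v₃, u₃} C}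
    (h𝒳 : FibCat.IsFibGrpd 𝒳.p) (h𝒴 : Stk.IsStack J 𝒴) (j : 𝒳 ⥤ᵇ 𝒴) [j.toFunctor.Faithful]
    (hj : ∀ (U : C) (y : FibCat.overCat U ⥤ᵇ 𝒴), Stk.IsStack J (FibCat.fp y j)) : Stk.IsStack J 𝒳 := by
  refine ⟨h𝒳, fun U R hR => ?_⟩
  haveI : (Stk.resSieve R 𝒴).IsEquivalence := h𝒴.2 R hR
  have hF : (Stk.resSieve R 𝒳).Faithful := ⟨fun {G H γ γ'} h => by
    apply BasedNatTrans.homCategory.ext
    apply NatTrans.ext
    funext a
    apply j.toFunctor.map_injective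
    have e : BasedCategory.whiskerRight γ j = BasedCategory.whiskerRight γ' j := by
      apply (Stk.resSieve R 𝒴).map_injective
      exact congrArg (fun δ => BasedCategory.whiskerRight δ j) h
    exact congrArg (fun δ => δ.toNatTrans.app a) e⟩
  have hE : (Stk.resSieve R 𝒳).EssSurj := ⟨fun t => by
    let Y := (Stk.resSieve R 𝒴).objPreimage (BasedFunctor.comp t j)
    let i : BasedFunctor.comp (Stk.sieveIncl R) Y ≅ BasedFunctor.comp t j :=
      (Stk.resSieve R 𝒴).objObjPreimageIso (BasedFunctor.comp t j)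
    haveI : (Stk.resSieve R (FibCat.fp Y j)).IsEquivalence := (hj U Y).2 R hR
    let T : Stk.sieveCat R ⥤ᵇ FibCat.fp Y j := FibCat.fpLift (Stk.sieveIncl R) t i
    let k := (Stk.resSieve R (FibCat.fp Y j)).objObjPreimageIso T
    exact ⟨BasedFunctor.comp ((Stk.resSieve R (FibCat.fp Y j)).objPreimage T) (FibCat.fpSnd Y j),
      ⟨wrIso k (FibCat.fpSnd Y j)⟩⟩⟩
  have hM : (Stk.resSieve R 𝒳).Full := ⟨fun {G H} α => by
    let αj : (Stk.resSieve R 𝒴).obj (BasedFunctor.comp G j) ⟶ (Stk.resSieve R 𝒴).obj (BasedFunctor.comp H j) :=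
      BasedCategory.whiskerRight α j
    obtain ⟨β, hβ⟩ := (Stk.resSieve R 𝒴).map_surjective αj
    haveI := isIso_basedNatTrans h𝒴.1 β
    haveI : (Stk.resSieve R (FibCat.fp (BasedFunctor.comp G j) j)).IsEquivalence := (hj U _).2 R hR
    let A : FibCat.overCat U ⥤ᵇ FibCat.fp (BasedFunctor.comp G j) j :=
      FibCat.fpLift (BasedFunctor.id _) G (Iso.refl _)
    let B : FibCat.overCat U ⥤ᵇ FibCat.fp (BasedFunctor.comp G j) j :=
      FibCat.fpLift (BasedFunctor.id _) H (asIso β)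
    have hβ' : ∀ x, β.toNatTrans.app ((Stk.sieveIncl R).obj x) = j.map (α.toNatTrans.app x) :=
      fun x => congrArg (fun δ => δ.toNatTrans.app x) hβ
    let η : (Stk.resSieve R (FibCat.fp (BasedFunctor.comp G j) j)).obj A ⟶
        (Stk.resSieve R (FibCat.fp (BasedFunctor.comp G j) j)).obj B :=
      { toNatTrans :=
          { app := fun x => fpHom (𝟙 _) (α.toNatTrans.app x) (by
              show j.map (G.map (𝟙 _)) ≫ β.toNatTrans.app ((Stk.sieveIncl R).obj x) =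
                𝟙 _ ≫ j.map (α.toNatTrans.app x)
              rw [hβ' x]
              simp)
            naturality := fun x x' g => fp_hom_ext
              (by show (Stk.sieveIncl R).map g ≫ 𝟙 _ = 𝟙 _ ≫ (Stk.sieveIncl R).map g; simp)
              (α.toNatTrans.naturality g) }
        isHomLift' := fun x => @isHomLift_of_snd _ _ _ _ _ _ _ _ _ _ _ _ _ (α.isHomLift' x) }
    obtain ⟨γ, hγ⟩ := (Stk.resSieve R (FibCat.fp (BasedFunctor.comp G j) j)).map_surjective η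
    refine ⟨BasedCategory.whiskerRight γ (FibCat.fpSnd (BasedFunctor.comp G j) j), ?_⟩
    apply BasedNatTrans.homCategory.ext
    ext x
    exact congrArg (fun δ => (δ.toNatTrans.app x).hom.snd) hγ⟩
  exact { faithful := hF, full := hM, essSurj := hE }

end Gen

variable {S : Scheme.{u}} {𝒳 𝒴 : AlgSt.Cat S}

theorem isStack_of_rep1 (h𝒳 : FibCat.IsFibGrpd 𝒳.p)
    (h𝒴 : Stk.IsStack (QuotSh.J Scheme.fppfPrecoverage S) 𝒴) (j : 𝒳 ⥤ᵇ 𝒴) (hj : AlgSt.RepByAlgSp1 j) :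
    Stk.IsStack (QuotSh.J Scheme.fppfPrecoverage S) 𝒳 :=
  haveI := faithful_of_rep1 h𝒳 h𝒴.1 hj
  isStack_of_fp _ h𝒳 h𝒴 j fun U y => (isDM_of_rep (hj U y)).1.isStack

theorem hasAtlas_of_rep1 {P : MorphismProperty (AlgSp.Sp S)} (hP : GoodP P)
    (hE : ∀ ⦃W : AlgSt.Cat S⦄, AlgSt.RepByAlgSp W → AlgSt.HasAtlas P W)
    (h𝒳 : FibCat.IsFibGrpd 𝒳.p) (h𝒴 : FibCat.IsFibGrpd 𝒴.p) (j : 𝒳 ⥤ᵇ 𝒴) (hj : AlgSt.RepByAlgSp1 j)
    (h : AlgSt.HasAtlas P 𝒴) : AlgSt.HasAtlas P 𝒳 := by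
  obtain ⟨V, y, hyP, hys⟩ := h
  obtain ⟨W, w, hwP, hws⟩ := hE (hj V y)
  exact ⟨W, BasedFunctor.comp w (FibCat.fpSnd y j),
    with_comp hP (overCat_isFibGrpd W) (fp_isFibGrpd (overCat_isFibGrpd V) h𝒳 h𝒴 y j) hwP (with_fpSnd j hyP),
    with_comp goodP_surjective (overCat_isFibGrpd W) (fp_isFibGrpd (overCat_isFibGrpd V) h𝒳 h𝒴 y j) hws
      (with_fpSnd j hys)⟩

theorem isAlgStack_of_rep1 (h𝒳 : FibCat.IsFibGrpd 𝒳.p) (h𝒴 : AlgSt.IsAlgStack Scheme.fppfPrecoverage 𝒴)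
    (j : 𝒳 ⥤ᵇ 𝒴) (hj : AlgSt.RepByAlgSp1 j) : AlgSt.IsAlgStack Scheme.fppfPrecoverage 𝒳 :=
  ⟨isStack_of_rep1 h𝒳 h𝒴.isStack j hj,
    (rep1_diag_iff h𝒳).2 (forall_rep1_of_rep1 h𝒳 h𝒴.isStack.1 hj ((rep1_diag_iff h𝒴.isStack.1).1 h𝒴.diag)),
    hasAtlas_of_rep1 goodP_locP (fun _ hW => (isDM_of_rep hW).1.atlas) h𝒳 h𝒴.isStack.1 j hj h𝒴.atlas⟩

end Groth.Agent.StAlg
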