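import Groth.Agent.Lib.StAlg.Props
import Groth.Agent.Lib.StAlg.Stack
import Groth.Agent.Lib.AlgSpace.OpenFlat
import Groth.Prelude.Def_AlgSt3

/-! First applications to properties of morphisms of stacks. -/

universe u

open CategoryTheory CategoryTheory.Functor CategoryTheory.Limits AlgebraicGeometry Opposite

set_option linter.style.haveILetI false
set_option linter.unusedVariables false
set_option backward.isDefEq.respectTransparency false
set_option backward.isDefEq.respectTransparency.types false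

namespace Groth.Agent.StAlg

open Groth.Agent.FC16

variable {S : Scheme.{u}} {𝒳 𝒴 𝒵 : AlgSt.Cat S}

theorem isMono_of_isImm {f : 𝒳 ⥤ᵇ 𝒴} (hf : AlgSt.IsImm f) : AlgSt.IsMono f :=
  repByAlgSpWith_mono (fun F hF U a ha => AlgSpace.mono_of_isImmersion ha) hf

theorem isQuasiDMMor_of_isDMMor {f : 𝒳 ⥤ᵇ 𝒴} (hf : AlgSt.IsDMMor f) : AlgSt.IsQuasiDMMor f :=
  repByAlgSpWith_mono (fun F hF U a ha => AlgSpace.locP_mono (fun A B φ hφ => by
    haveI : LocallyOfFiniteType φ := hφ.1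
    haveI : FormallyUnramified φ := hφ.2
    exact ⟨AlgSpace.locallyQuasiFinite_of_unramified φ, hφ.1⟩) ha) hf

theorem isDM_fp {K : Precoverage Scheme.{u}} (h𝒵 : Stk.IsStack (QuotSh.J K S) 𝒵)
    (hΔ : AlgSt.RepByAlgSp1 (FibCat.diag (FibCat.toSelf 𝒵)))
    (h𝒳 : AlgSt.IsDM K 𝒳) (h𝒴 : AlgSt.IsDM K 𝒴) (f : 𝒳 ⥤ᵇ 𝒵) (g : 𝒴 ⥤ᵇ 𝒵) :
    AlgSt.IsDM K (FibCat.fp f g) := by
  refine ⟨isAlgStack_fp h𝒵 hΔ h𝒳.1 h𝒴.1 f g, ?_⟩
  have gX := h𝒳.1.isStack.1
  have gZ := h𝒵.1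
  have hz := (rep1_diag_iff gZ).1 hΔ
  obtain ⟨U, x, hxP, hxs⟩ := h𝒳.2
  obtain ⟨T, y, hyP, hys⟩ := h𝒴.2
  have hW : AlgSt.RepByAlgSp (FibCat.fp (BasedFunctor.comp x f) (BasedFunctor.comp y g)) :=
    rep_fp (overCat_isFibGrpd T) gZ (hz T _) (rep_overCat U) _
  obtain ⟨W, w, hwP, hws⟩ := (isDM_of_rep hW).2
  exact ⟨W, BasedFunctor.comp w _,
    with_comp goodP_isEtaleMor (overCat_isFibGrpd W) (isFibGrpd_of_rep hW) hwP
      (with_fp_map goodP_isEtaleMor gX gZ f g hxP hyP),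
    with_comp goodP_surjective (overCat_isFibGrpd W) (isFibGrpd_of_rep hW) hws
      (with_fp_map goodP_surjective gX gZ f g hxs hys)⟩

end Groth.Agent.StAlg
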