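import Groth.Agent.Lib.StAlg.DiagMor
import Groth.Agent.Lib.StAlg.Apps
import Groth.Agent.Lib.AlgSpace.Proper

/-! Separation conditions on morphisms of stacks: composition, cancellation, representable morphisms. -/

universe u

open CategoryTheory CategoryTheory.Functor CategoryTheory.Limits AlgebraicGeometry Opposite

set_option linter.style.haveILetI false
set_option linter.unusedSectionVars false
set_option backward.isDefEq.respectTransparency false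
set_option backward.isDefEq.respectTransparency.types false

namespace Groth.Agent.StAlg

open Groth.Agent.FC16 Groth.Agent.AlgSpace

variable {S : Scheme.{u}} {P Q : MorphismProperty (AlgSp.Sp S)} {𝒳 𝒴 𝒵 𝒯 : AlgSt.Cat S}

lemma pbP_locP {R : MorphismProperty Scheme.{u}} [AlgSpace.EtaleLocal R] : PbP (S := S) (AlgSp.LocP R) :=
  fun _ _ _ _ h₁ h₂ _ h₄ _ _ _ _ sq h => locP_of_isPullback h₁ h₂ h₄ sq h

lemma pbP_isQuasiCompactMor : PbP (S := S) AlgSp.IsQuasiCompactMor :=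
  fun _ _ _ _ _ _ _ _ _ _ _ _ sq h => isQuasiCompactMor_of_isPullback sq h

lemma pbP_isQuasiSeparatedMor : PbP (S := S) AlgSp.IsQuasiSeparatedMor :=
  fun _ _ _ _ _ _ _ _ _ _ _ _ sq h => isQuasiSeparatedMor_of_isPullback sq h

lemma pbP_isSeparatedMor : PbP (S := S) AlgSp.IsSeparatedMor :=
  fun _ _ _ _ _ _ _ _ _ _ _ _ sq h => isSeparatedMor_of_isPullback sq h

lemma pbP_isProperMor : PbP (S := S) AlgSp.IsProperMor :=
  fun _ _ _ _ h₁ h₂ _ h₄ _ _ _ _ sq h => isProperMor_of_isPullback h₁ h₂ h₄ sq h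

lemma pbP_mono : PbP (S := S) (MorphismProperty.monomorphisms (AlgSp.Sp S)) :=
  fun _ _ _ _ _ _ _ _ _ _ _ _ sq h => MorphismProperty.of_isPullback sq h

lemma PbP.inf (hP : PbP P) (hQ : PbP Q) : PbP (P ⊓ Q) :=
  fun _ _ _ _ h₁ h₂ h₃ h₄ a b a' b' sq h => ⟨hP h₁ h₂ h₃ h₄ a b a' b' sq h.1, hQ h₁ h₂ h₃ h₄ a b a' b' sq h.2⟩

/-- the diagonal of a morphism of algebraic stacks is representable by algebraic spaces -/
theorem rep1_diag {K : Precoverage Scheme.{u}} (h𝒳 : AlgSt.IsAlgStack K 𝒳) (h𝒴 : AlgSt.IsAlgStack K 𝒴)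
    (f : 𝒳 ⥤ᵇ 𝒴) : AlgSt.RepByAlgSp1 (FibCat.diag f) := by
  refine repByAlgSp1_iff.2 (with_diag_of_comp (g := FibCat.toSelf 𝒴) (Q := ⊤) goodP_top
    (fun _ _ _ _ _ _ _ _ _ _ _ _ _ _ => trivial) h𝒳.isStack.1 h𝒴.isStack.1 selfOver_isFibGrpd ?_
    (repByAlgSp1_iff.1 h𝒴.diag) (fun _ _ _ _ _ => trivial))
  exact with_diag_of_iso (eqToIso (selfOver_functor_eq _ _)) (repByAlgSp1_iff.1 h𝒳.diag)

section Space

variable {X Y : AlgSp.Sp S}

lemma locP_lftUnram_diagonal (hX : AlgSp.IsAlgSpace X) {U : Over S} (a : X ⟶ (AlgSp.yon S).obj U) :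
    AlgSp.LocP (@LocallyOfFiniteType ⊓ @FormallyUnramified) (pullback.diagonal a) := by
  have hXX := AlgSpace.isAlgSpace_pullback (AlgSp.IsAlgSpace.yon_obj U) hX hX (IsPullback.of_hasPullback a a)
  refine locP_of_repWith hXX (repWith_mono ?_ (repWith_inf (repWith_diagonal_lft hX a) (repWith_diagonal_mono hX a)))
  rintro A B g ⟨h₁, h₂⟩
  haveI : LocallyOfFiniteType g := h₁
  haveI : Mono g := h₂
  exact ⟨h₁, inferInstance⟩

lemma locP_lqf_diagonal (hX : AlgSp.IsAlgSpace X) {U : Over S} (a : X ⟶ (AlgSp.yon S).obj U) :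
    AlgSp.LocP (@LocallyQuasiFinite ⊓ @LocallyOfFiniteType) (pullback.diagonal a) :=
  locP_of_repWith (AlgSpace.isAlgSpace_pullback (AlgSp.IsAlgSpace.yon_obj U) hX hX (IsPullback.of_hasPullback a a))
    (repWith_diagonal_lqf hX a)

lemma isSeparatedMor_diagonal (hX : AlgSp.IsAlgSpace X) {U : Over S} (a : X ⟶ (AlgSp.yon S).obj U) :
    AlgSp.IsSeparatedMor (pullback.diagonal a) :=
  (isSeparatedMor_iff_of_representable hX
    (AlgSpace.isAlgSpace_pullback (AlgSp.IsAlgSpace.yon_obj U) hX hX (IsPullback.of_hasPullback a a))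
    (representable_diagonal hX a)).2 (repWith_diagonal_isSeparated hX a)

lemma isQuasiSeparatedMor_diagonal (hX : AlgSp.IsAlgSpace X) {U : Over S} (a : X ⟶ (AlgSp.yon S).obj U) :
    AlgSp.IsQuasiSeparatedMor (pullback.diagonal a) :=
  (isQuasiSeparatedMor_iff_of_representable hX
    (AlgSpace.isAlgSpace_pullback (AlgSp.IsAlgSpace.yon_obj U) hX hX (IsPullback.of_hasPullback a a))
    (representable_diagonal hX a)).2
    (repWith_mono (Q := @QuasiSeparated.{u}) (fun _ _ g (_ : IsSeparated g) => (inferInstance : QuasiSeparated g))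
      (repWith_diagonal_isSeparated hX a))

lemma mono_diagonal (a : X ⟶ Y) : MorphismProperty.monomorphisms (AlgSp.Sp S) (pullback.diagonal a) :=
  (inferInstance : Mono (pullback.diagonal a))

lemma isProperMor_diagonal (hX : AlgSp.IsAlgSpace X) {U : Over S} (a : X ⟶ (AlgSp.yon S).obj U)
    (h : AlgSp.IsSeparatedMor a) : AlgSp.IsProperMor (pullback.diagonal a) :=
  (repWith_isProper_iff hX
    (AlgSpace.isAlgSpace_pullback (AlgSp.IsAlgSpace.yon_obj U) hX hX (IsPullback.of_hasPullback a a))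
    (representable_diagonal hX a)).1 (repWith_mono (Q := @IsProper.{u}) (fun _ _ g (_ : IsClosedImmersion g) => (inferInstance : IsProper g)) h)

lemma qcqs_diagonal (hX : AlgSp.IsAlgSpace X) {U : Over S} (a : X ⟶ (AlgSp.yon S).obj U)
    (h : AlgSp.IsQuasiSeparatedMor a) :
    (AlgSp.IsQuasiCompactMor ⊓ AlgSp.IsQuasiSeparatedMor) (pullback.diagonal a) :=
  ⟨(repWith_quasiCompact_iff hX
      (AlgSpace.isAlgSpace_pullback (AlgSp.IsAlgSpace.yon_obj U) hX hX (IsPullback.of_hasPullback a a))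
      (representable_diagonal hX a)).1 h,
    isQuasiSeparatedMor_diagonal hX a⟩

end Space

theorem isDMMor_of_rep1 {f : 𝒳 ⥤ᵇ 𝒴} (hf : AlgSt.RepByAlgSp1 f) : AlgSt.IsDMMor f :=
  with_diag_of_rep1 pbP_locP (repByAlgSp1_iff.1 hf) fun _ hX _ a _ => locP_lftUnram_diagonal hX a

theorem isMono_diag_of_rep1 {f : 𝒳 ⥤ᵇ 𝒴} (hf : AlgSt.RepByAlgSp1 f) : AlgSt.IsMono (FibCat.diag f) :=
  with_diag_of_rep1 pbP_mono (repByAlgSp1_iff.1 hf) fun _ _ _ a _ => mono_diagonal a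

theorem separated_diag_of_rep1 {f : 𝒳 ⥤ᵇ 𝒴} (hf : AlgSt.RepByAlgSp1 f) :
    AlgSt.RepByAlgSpWith AlgSp.IsSeparatedMor (FibCat.diag f) :=
  with_diag_of_rep1 pbP_isSeparatedMor (repByAlgSp1_iff.1 hf) fun _ hX _ a _ => isSeparatedMor_diagonal hX a

theorem isSeparatedMor_of_isMono {f : 𝒳 ⥤ᵇ 𝒴} (hf : AlgSt.IsMono f) : AlgSt.IsSeparatedMor f :=
  with_diag_of_rep1 pbP_isProperMor hf fun _ hX _ a (_ : Mono a) =>
    isProperMor_diagonal hX a (AlgSpace.repWith_diagonal_of_mono a)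

lemma pbP_representable : PbP (S := S) AlgSp.Representable :=
  fun _ _ _ _ _ _ _ _ _ _ _ _ sq h => representable_of_isPullback sq h

theorem isRepresentable1_of_with_representable {f : 𝒳 ⥤ᵇ 𝒴}
    (hf : AlgSt.RepByAlgSpWith (fun _ _ a => AlgSp.Representable a) f) : FibCat.IsRepresentable1 f := fun U y => by
  obtain ⟨F, e, he, hR⟩ := hf U y
  have hR' : AlgSp.Representable (AlgSt.spMapOfOver (BasedFunctor.comp e (FibCat.fpFst y f))) := hR
  have sq := hR'.isPullback (𝟙 ((AlgSp.yon S).obj U))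
  haveI := sq.isIso_fst_of_isIso
  let i := hR'.fst (𝟙 ((AlgSp.yon S).obj U))
  have hi : IsIso i.hom := inferInstanceAs (IsIso ((sheafToPresheaf (AlgSp.J S) (Type (u + 1))).map i))
  have hE := isEquivOver_comp (ofOverCat_isEquivOver (hR'.pullback (𝟙 ((AlgSp.yon S).obj U))))
    (isEquivOver_comp (ofPshMap_isEquivOver i.hom) he)
  obtain ⟨G, hG, -, -⟩ := exists_inverse hE
  exact ⟨_, G, hG⟩

theorem isRepresentable1_diag_of_rep1 {f : 𝒳 ⥤ᵇ 𝒴} (hf : AlgSt.RepByAlgSp1 f) :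
    FibCat.IsRepresentable1 (FibCat.diag f) :=
  isRepresentable1_of_with_representable
    (with_diag_of_rep1 pbP_representable (repByAlgSp1_iff.1 hf) fun _ hX _ a _ => representable_diagonal hX a)

section Mor

variable {f : 𝒳 ⥤ᵇ 𝒴} {g : 𝒴 ⥤ᵇ 𝒵}

theorem isDMMor_of_comp (h𝒳 : AlgSt.IsAlgStack Scheme.fppfPrecoverage 𝒳)
    (h𝒴 : AlgSt.IsAlgStack Scheme.fppfPrecoverage 𝒴) (h𝒵 : AlgSt.IsAlgStack Scheme.fppfPrecoverage 𝒵)
    (h : AlgSt.IsDMMor (BasedFunctor.comp f g)) : AlgSt.IsDMMor f :=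
  with_diag_of_comp goodP_locP pbP_locP h𝒳.isStack.1 h𝒴.isStack.1 h𝒵.isStack.1 h
    (repByAlgSp1_iff.1 (rep1_diag h𝒴 h𝒵 g)) fun _ hX _ a _ => locP_lftUnram_diagonal hX a

theorem isQuasiDMMor_of_comp (h𝒳 : AlgSt.IsAlgStack Scheme.fppfPrecoverage 𝒳)
    (h𝒴 : AlgSt.IsAlgStack Scheme.fppfPrecoverage 𝒴) (h𝒵 : AlgSt.IsAlgStack Scheme.fppfPrecoverage 𝒵)
    (h : AlgSt.IsQuasiDMMor (BasedFunctor.comp f g)) : AlgSt.IsQuasiDMMor f :=
  with_diag_of_comp goodP_locP pbP_locP h𝒳.isStack.1 h𝒴.isStack.1 h𝒵.isStack.1 h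
    (repByAlgSp1_iff.1 (rep1_diag h𝒴 h𝒵 g)) fun _ hX _ a _ => locP_lqf_diagonal hX a

theorem isSeparatedMor_of_comp (h𝒳 : FibCat.IsFibGrpd 𝒳.p) (h𝒴 : FibCat.IsFibGrpd 𝒴.p)
    (h𝒵 : FibCat.IsFibGrpd 𝒵.p) (h : AlgSt.IsSeparatedMor (BasedFunctor.comp f g))
    (hg : AlgSt.RepByAlgSpWith AlgSp.IsSeparatedMor (FibCat.diag g)) : AlgSt.IsSeparatedMor f :=
  with_diag_of_comp goodP_isProperMor pbP_isProperMor h𝒳 h𝒴 h𝒵 h hg
    fun _ hX _ a ha => isProperMor_diagonal hX a ha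

theorem isQuasiSeparatedMor_of_comp (h𝒳 : FibCat.IsFibGrpd 𝒳.p) (h𝒴 : FibCat.IsFibGrpd 𝒴.p)
    (h𝒵 : FibCat.IsFibGrpd 𝒵.p) (h : AlgSt.IsQuasiSeparatedMor (BasedFunctor.comp f g))
    (hg : AlgSt.RepByAlgSpWith AlgSp.IsQuasiSeparatedMor (FibCat.diag g)) : AlgSt.IsQuasiSeparatedMor f :=
  with_diag_of_comp (goodP_isQuasiCompactMor.inf goodP_isQuasiSeparatedMor)
    (pbP_isQuasiCompactMor.inf pbP_isQuasiSeparatedMor) h𝒳 h𝒴 h𝒵 h hg
    fun _ hX _ a ha => qcqs_diagonal hX a ha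

end Mor

end Groth.Agent.StAlg
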