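import Groth.Agent.Lib.StAlg.Psh
import Groth.Agent.Lib.FC16.Self
import Groth.Prelude.Def_AlgSt2

/-! Representability by algebraic spaces: invariance and base change. -/

universe v₇ u₇ v₆ u₆ v₅ u₅ v₄ u₄ v₃ u₃ v₂ u₂ u

open CategoryTheory CategoryTheory.Functor CategoryTheory.Limits AlgebraicGeometry Opposite

set_option linter.style.haveILetI false
set_option linter.unusedSimpArgs false
set_option linter.unusedSectionVars false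
set_option backward.isDefEq.respectTransparency false
set_option backward.isDefEq.respectTransparency.types false

namespace Groth.Agent.StAlg

open Groth.Agent.FC16

variable {S : Scheme.{u}}

section Gen

variable {C : Type u₇} [Category.{v₇} C] {𝒳 : BasedCategory.{v₂, u₂} C} {𝒴 : BasedCategory.{v₃, u₃} C}
  {𝒮 : BasedCategory.{v₄, u₄} C} {𝒲 : BasedCategory.{v₅, u₅} C}

lemma idFun_full : (BasedFunctor.id 𝒳).toFunctor.Full := inferInstanceAs (Functor.id 𝒳.obj).Full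

lemma idFun_faithful : (BasedFunctor.id 𝒳).toFunctor.Faithful := inferInstanceAs (Functor.id 𝒳.obj).Faithful

/-- interchange of the factors -/
noncomputable def fpSwap (F : 𝒳 ⥤ᵇ 𝒮) (G : 𝒴 ⥤ᵇ 𝒮) : FibCat.fp F G ⥤ᵇ FibCat.fp G F :=
  FibCat.fpLift (FibCat.fpSnd F G) (FibCat.fpFst F G) (FibCat.fpIso F G).symm

lemma fpSwap_isEquivOver (F : 𝒳 ⥤ᵇ 𝒮) (G : 𝒴 ⥤ᵇ 𝒮) : FibCat.IsEquivOver (fpSwap F G) :=
  ⟨fpSwap G F, ⟨Iso.refl _⟩, ⟨Iso.refl _⟩⟩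

/-- whiskering an iso on the right -/
def wrIso {x y : 𝒳 ⥤ᵇ 𝒴} (i : x ≅ y) (F : 𝒴 ⥤ᵇ 𝒲) : BasedFunctor.comp x F ≅ BasedFunctor.comp y F :=
  (postFun 𝒳 F).mapIso i

/-- isomorphism of functors into a product over the base -/
noncomputable def isoToFp {F : 𝒳 ⥤ᵇ FibCat.selfOver C} {G : 𝒴 ⥤ᵇ FibCat.selfOver C}
    {A B : 𝒲 ⥤ᵇ FibCat.fp F G}
    (i : BasedFunctor.comp A (FibCat.fpFst F G) ≅ BasedFunctor.comp B (FibCat.fpFst F G))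
    (j : BasedFunctor.comp A (FibCat.fpSnd F G) ≅ BasedFunctor.comp B (FibCat.fpSnd F G)) : A ≅ B :=
  BasedNatIso.mkNatIso
    (NatIso.ofComponents (fun w => fpIsoMk (appIso i w) (appIso j w) (by
        haveI h1 : 𝒳.p.IsHomLift (𝟙 (𝒲.p.obj w)) (appIso i w).hom := isHomLift_appIso_hom i w rfl
        haveI h2 : 𝒴.p.IsHomLift (𝟙 (𝒲.p.obj w)) (appIso j w).hom := isHomLift_appIso_hom j w rfl
        haveI := iso_lift (A.obj w) (U := 𝒲.p.obj w) (A.w_obj w)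
        haveI := iso_lift (B.obj w) (U := 𝒲.p.obj w) (B.w_obj w)
        exact selfOver_hom_ext (𝟙 (𝒲.p.obj w)) _ _))
      (fun {w w'} g => fp_hom_ext (i.hom.toNatTrans.naturality g) (j.hom.toNatTrans.naturality g)))
    (fun w => @isHomLift_of_fst _ _ _ _ _ _ _ _ _ _ _ _ _ (isHomLift_appIso_hom i w rfl))

lemma faithful_fpFst (F : 𝒳 ⥤ᵇ 𝒮) (G : 𝒴 ⥤ᵇ 𝒮) [G.toFunctor.Faithful] :
    (FibCat.fpFst F G).toFunctor.Faithful := ⟨fun {x y φ ψ} h => by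
  have h1 : φ.hom.fst = ψ.hom.fst := h
  refine fp_hom_ext h1 (G.toFunctor.map_injective ?_)
  have e := fp_w φ
  rw [h1, fp_w ψ] at e
  exact ((cancel_epi x.obj.iso.hom).1 e).symm⟩

lemma isFibSetoid_fp_of_faithful (F : 𝒳 ⥤ᵇ 𝒮) (G : 𝒴 ⥤ᵇ 𝒮) [G.toFunctor.Faithful]
    (h𝒳 : FibCat.IsFibSetoid 𝒳.p) (h𝒴 : FibCat.IsFibGrpd 𝒴.p) (h𝒮 : FibCat.IsFibGrpd 𝒮.p) :
    FibCat.IsFibSetoid (FibCat.fp F G).p :=
  haveI := faithful_fpFst F G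
  isFibSetoid_of_faithful (FibCat.fpFst F G) (fp_isFibGrpd h𝒳.1 h𝒴 h𝒮 F G) h𝒳

end Gen

variable {U : Over S}

lemma toOver_ofOver (U : Over S) :
    BasedFunctor.comp (AlgSt.toOverCat U) (AlgSt.ofOverCat U) = BasedFunctor.id _ := rfl

lemma ofOver_toOver (U : Over S) :
    BasedFunctor.comp (AlgSt.ofOverCat U) (AlgSt.toOverCat U) = BasedFunctor.id _ := rfl

lemma toOverCat_isEquivOver (U : Over S) : FibCat.IsEquivOver (AlgSt.toOverCat U) :=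
  ⟨AlgSt.ofOverCat U, ⟨eqToIso (toOver_ofOver U)⟩, ⟨eqToIso (ofOver_toOver U)⟩⟩

lemma ofOverCat_isEquivOver (U : Over S) : FibCat.IsEquivOver (AlgSt.ofOverCat U) :=
  ⟨AlgSt.toOverCat U, ⟨eqToIso (ofOver_toOver U)⟩, ⟨eqToIso (toOver_ofOver U)⟩⟩

lemma spMapOfOver_hom {F : AlgSp.Sp S} (Φ : AlgSt.ofSp F ⥤ᵇ FibCat.overCat U) :
    (AlgSt.spMapOfOver Φ).hom = mapOf (BasedFunctor.comp Φ (AlgSt.ofOverCat U)) := by
  ext T x
  rfl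

lemma spMapOfOver_congr {F : AlgSp.Sp S} {Φ Ψ : AlgSt.ofSp F ⥤ᵇ FibCat.overCat U} (i : Φ ≅ Ψ) :
    AlgSt.spMapOfOver Φ = AlgSt.spMapOfOver Ψ := by
  apply ObjectProperty.hom_ext
  rw [spMapOfOver_hom, spMapOfOver_hom, mapOf_congr (wrIso i _)]

/-- a category over `U` is represented by an algebraic space whose map to `U` has `P` -/
def RepOf (P : MorphismProperty (AlgSp.Sp S)) {𝒲 : BasedCategory.{v₂, u₂} (Over S)}
    (π : 𝒲 ⥤ᵇ FibCat.overCat U) : Prop :=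
  ∃ (F : AlgSp.Space S) (e : AlgSt.ofSp F.obj ⥤ᵇ 𝒲),
    FibCat.IsEquivOver e ∧ P (AlgSt.spMapOfOver (BasedFunctor.comp e π))

variable {P : MorphismProperty (AlgSp.Sp S)}

section Congr

variable {𝒲 : BasedCategory.{v₂, u₂} (Over S)} {𝒲' : BasedCategory.{v₃, u₃} (Over S)}
  {π : 𝒲 ⥤ᵇ FibCat.overCat U} {π' : 𝒲' ⥤ᵇ FibCat.overCat U}

lemma repOf_of_equiv {E : 𝒲 ⥤ᵇ 𝒲'} (hE : FibCat.IsEquivOver E) (i : BasedFunctor.comp E π' ≅ π)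
    (h : RepOf P π) : RepOf P π' := by
  obtain ⟨F, e, he, hP⟩ := h
  refine ⟨F, BasedFunctor.comp e E, isEquivOver_comp he hE, ?_⟩
  have : AlgSt.spMapOfOver (BasedFunctor.comp (BasedFunctor.comp e E) π') =
      AlgSt.spMapOfOver (BasedFunctor.comp e π) := spMapOfOver_congr (wlIso e i)
  rw [this]
  exact hP

lemma repOf_of_equiv' {E : 𝒲 ⥤ᵇ 𝒲'} (hE : FibCat.IsEquivOver E) (i : BasedFunctor.comp E π' ≅ π)
    (h : RepOf P π') : RepOf P π := by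
  obtain ⟨G, hG, -, ⟨β⟩⟩ := exists_inverse hE
  exact repOf_of_equiv hG ((wlIso G i).symm ≪≫ wrIso β π') h

lemma repByAlgSp_congr {E : 𝒲 ⥤ᵇ 𝒲'} (hE : FibCat.IsEquivOver E) :
    AlgSt.RepByAlgSp 𝒲 ↔ AlgSt.RepByAlgSp 𝒲' := by
  constructor
  · rintro ⟨F, e, he⟩
    exact ⟨F, BasedFunctor.comp e E, isEquivOver_comp he hE⟩
  · rintro ⟨F, e, he⟩
    obtain ⟨G, hG, -, -⟩ := exists_inverse hE
    exact ⟨F, BasedFunctor.comp e G, isEquivOver_comp he hG⟩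

lemma repByAlgSp_of_isEquivOver_top (π : 𝒲 ⥤ᵇ FibCat.overCat U) : RepOf ⊤ π ↔ AlgSt.RepByAlgSp 𝒲 :=
  ⟨fun ⟨F, e, he, _⟩ => ⟨F, e, he⟩, fun ⟨F, e, he⟩ => ⟨F, e, he, trivial⟩⟩

end Congr

variable {𝒳 : BasedCategory.{v₂, u₂} (Over S)} {𝒴 : BasedCategory.{v₃, u₃} (Over S)}
  {𝒳' : BasedCategory.{v₄, u₄} (Over S)} {𝒴' : BasedCategory.{v₅, u₅} (Over S)}
  {𝒵 : BasedCategory.{v₆, u₆} (Over S)}

lemma repByAlgSp1_iff {f : 𝒳 ⥤ᵇ 𝒴} : AlgSt.RepByAlgSp1 f ↔ AlgSt.RepByAlgSpWith ⊤ f :=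
  forall_congr' fun _ => forall_congr' fun y => (repByAlgSp_of_isEquivOver_top (FibCat.fpFst y f)).symm

lemma repByAlgSp1_of_with {f : 𝒳 ⥤ᵇ 𝒴} (h : AlgSt.RepByAlgSpWith P f) : AlgSt.RepByAlgSp1 f := fun U y => by
  obtain ⟨F, e, he, -⟩ := h U y
  exact ⟨F, e, he⟩

lemma repByAlgSpWith_mono {Q : MorphismProperty (AlgSp.Sp S)}
    (hPQ : ∀ ⦃F : AlgSp.Sp S⦄, AlgSp.IsAlgSpace F → ∀ ⦃U : Over S⦄ (a : F ⟶ (AlgSp.yon S).obj U), P a → Q a)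
    {f : 𝒳 ⥤ᵇ 𝒴} (h : AlgSt.RepByAlgSpWith P f) : AlgSt.RepByAlgSpWith Q f := fun U y => by
  obtain ⟨F, e, he, hP⟩ := h U y
  exact ⟨F, e, he, hPQ F.property _ hP⟩

lemma repOf_left {f : 𝒳 ⥤ᵇ 𝒴} {y y' : FibCat.overCat U ⥤ᵇ 𝒴} (i : y' ≅ y)
    (h : RepOf P (FibCat.fpFst y f)) : RepOf P (FibCat.fpFst y' f) :=
  haveI := idFun_full (𝒳 := 𝒴)
  haveI := idFun_faithful (𝒳 := 𝒴)
  repOf_of_equiv
    (E := fpMap (a := BasedFunctor.id (FibCat.overCat U)) (b := BasedFunctor.id 𝒳) (s := BasedFunctor.id 𝒴)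
      (F := y) (G := f) (F' := y') (G' := f) i (Iso.refl _))
    (fpMap_isEquivOver (a := BasedFunctor.id (FibCat.overCat U)) (b := BasedFunctor.id 𝒳)
      (s := BasedFunctor.id 𝒴) (F := y) (G := f) (F' := y') (G' := f) i (Iso.refl _)
      isEquivOver_id isEquivOver_id)
    (Iso.refl _) h

/-- replacing the target by an equivalent category -/
theorem with_congr {f : 𝒳 ⥤ᵇ 𝒴} {f' : 𝒳' ⥤ᵇ 𝒴'} {a : 𝒳' ⥤ᵇ 𝒳} {b : 𝒴' ⥤ᵇ 𝒴} (ha : FibCat.IsEquivOver a)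
    (hb : FibCat.IsEquivOver b) (e : BasedFunctor.comp f' b ≅ BasedFunctor.comp a f) :
    AlgSt.RepByAlgSpWith P f ↔ AlgSt.RepByAlgSpWith P f' := by
  haveI := isEquivalence_of_isEquivOver hb
  have hE : ∀ (U : Over S) (y' : FibCat.overCat U ⥤ᵇ 𝒴'),
      RepOf P (FibCat.fpFst (BasedFunctor.comp y' b) f) ↔ RepOf P (FibCat.fpFst y' f') := fun U y' => by
    have hm : FibCat.IsEquivOver (fpMap (a := BasedFunctor.id (FibCat.overCat U)) (b := a) (s := b)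
        (F := y') (G := f') (F' := BasedFunctor.comp y' b) (G' := f) (Iso.refl _) e.symm) :=
      fpMap_isEquivOver (a := BasedFunctor.id (FibCat.overCat U)) (b := a) (s := b)
        (F := y') (G := f') (F' := BasedFunctor.comp y' b) (G' := f) (Iso.refl _) e.symm isEquivOver_id ha
    exact ⟨repOf_of_equiv' hm (Iso.refl _), repOf_of_equiv hm (Iso.refl _)⟩
  constructor
  · exact fun h U y' => (hE U y').1 (h U (BasedFunctor.comp y' b))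
  · intro h U y
    obtain ⟨b', -, -, ⟨β⟩⟩ := exists_inverse hb
    exact repOf_left (y := BasedFunctor.comp (BasedFunctor.comp y b') b) (wlIso y β).symm
      ((hE U _).2 (h U _))

theorem rep1_congr {f : 𝒳 ⥤ᵇ 𝒴} {f' : 𝒳' ⥤ᵇ 𝒴'} {a : 𝒳' ⥤ᵇ 𝒳} {b : 𝒴' ⥤ᵇ 𝒴} (ha : FibCat.IsEquivOver a)
    (hb : FibCat.IsEquivOver b) (e : BasedFunctor.comp f' b ≅ BasedFunctor.comp a f) :
    AlgSt.RepByAlgSp1 f ↔ AlgSt.RepByAlgSp1 f' := by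
  rw [repByAlgSp1_iff, repByAlgSp1_iff, with_congr ha hb e]

theorem with_of_iso {f f' : 𝒳 ⥤ᵇ 𝒴} (i : f ≅ f') (h : AlgSt.RepByAlgSpWith P f) : AlgSt.RepByAlgSpWith P f' :=
  (with_congr (f := f) (f' := f') (a := BasedFunctor.id 𝒳) (b := BasedFunctor.id 𝒴) isEquivOver_id
    isEquivOver_id i.symm).1 h

/-- base change -/
theorem with_fpFst {f : 𝒳 ⥤ᵇ 𝒴} (g : 𝒵 ⥤ᵇ 𝒴) (h : AlgSt.RepByAlgSpWith P f) :
    AlgSt.RepByAlgSpWith P (FibCat.fpFst g f) := fun U y =>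
  repOf_of_equiv' (pasteL_isEquivOver y g f) (Iso.refl _) (h U (BasedFunctor.comp y g))

theorem with_fpSnd {f : 𝒳 ⥤ᵇ 𝒴} (g : 𝒵 ⥤ᵇ 𝒴) (h : AlgSt.RepByAlgSpWith P f) :
    AlgSt.RepByAlgSpWith P (FibCat.fpSnd f g) :=
  (with_congr (f := FibCat.fpFst g f) (f' := FibCat.fpSnd f g) (a := fpSwap f g) (b := BasedFunctor.id 𝒵)
    (fpSwap_isEquivOver f g) isEquivOver_id (Iso.refl _)).1 (with_fpFst g h)

theorem rep1_fpFst {f : 𝒳 ⥤ᵇ 𝒴} (g : 𝒵 ⥤ᵇ 𝒴) (h : AlgSt.RepByAlgSp1 f) :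
    AlgSt.RepByAlgSp1 (FibCat.fpFst g f) :=
  repByAlgSp1_iff.2 (with_fpFst g (repByAlgSp1_iff.1 h))

theorem rep1_fpSnd {f : 𝒳 ⥤ᵇ 𝒴} (g : 𝒵 ⥤ᵇ 𝒴) (h : AlgSt.RepByAlgSp1 f) :
    AlgSt.RepByAlgSp1 (FibCat.fpSnd f g) :=
  repByAlgSp1_iff.2 (with_fpSnd g (repByAlgSp1_iff.1 h))

section Invariance

variable {E : 𝒳 ⥤ᵇ 𝒴}

theorem hasAtlas_of_equiv (hE : FibCat.IsEquivOver E) (h : AlgSt.HasAtlas P 𝒳) : AlgSt.HasAtlas P 𝒴 := by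
  obtain ⟨U, x, hP, hs⟩ := h
  exact ⟨U, BasedFunctor.comp x E,
    (with_congr (f := BasedFunctor.comp x E) (f' := x) (a := BasedFunctor.id _) (b := E) isEquivOver_id hE
      (Iso.refl _)).2 hP,
    (with_congr (f := BasedFunctor.comp x E) (f' := x) (a := BasedFunctor.id _) (b := E) isEquivOver_id hE
      (Iso.refl _)).2 hs⟩

theorem rep1_diag_congr (hE : FibCat.IsEquivOver E) :
    AlgSt.RepByAlgSp1 (FibCat.diag (FibCat.toSelf 𝒳)) ↔ AlgSt.RepByAlgSp1 (FibCat.diag (FibCat.toSelf 𝒴)) := by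
  let t : BasedFunctor.comp E (FibCat.toSelf 𝒴) ≅
      BasedFunctor.comp (FibCat.toSelf 𝒳) (BasedFunctor.id (FibCat.selfOver (Over S))) :=
    eqToIso (selfOver_functor_eq _ _)
  haveI := idFun_full (𝒳 := FibCat.selfOver (Over S))
  haveI := idFun_faithful (𝒳 := FibCat.selfOver (Over S))
  refine (rep1_congr (f := FibCat.diag (FibCat.toSelf 𝒴)) (f' := FibCat.diag (FibCat.toSelf 𝒳)) (a := E)
    (b := fpMap t t) hE (fpMap_isEquivOver t t hE hE) ?_).symm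
  exact isoToFp (Iso.refl _) (Iso.refl _)

theorem isAlgStack_of_equiv (hE : FibCat.IsEquivOver E) {K : Precoverage Scheme.{u}}
    (h : AlgSt.IsAlgStack K 𝒳) : AlgSt.IsAlgStack K 𝒴 :=
  ⟨(isStack_iff_of_isEquivOver _ hE).1 h.isStack, (rep1_diag_congr hE).1 h.diag, hasAtlas_of_equiv hE h.atlas⟩

theorem isDM_of_equiv (hE : FibCat.IsEquivOver E) {K : Precoverage Scheme.{u}}
    (h : AlgSt.IsDM K 𝒳) : AlgSt.IsDM K 𝒴 :=
  ⟨isAlgStack_of_equiv hE h.1, hasAtlas_of_equiv hE h.2⟩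

theorem isAlgStack_iff (hE : FibCat.IsEquivOver E) {K : Precoverage Scheme.{u}} :
    AlgSt.IsAlgStack K 𝒳 ↔ AlgSt.IsAlgStack K 𝒴 := by
  obtain ⟨G, hG, -, -⟩ := exists_inverse hE
  exact ⟨isAlgStack_of_equiv hE, isAlgStack_of_equiv hG⟩

theorem isDM_iff (hE : FibCat.IsEquivOver E) {K : Precoverage Scheme.{u}} :
    AlgSt.IsDM K 𝒳 ↔ AlgSt.IsDM K 𝒴 := by
  obtain ⟨G, hG, -, -⟩ := exists_inverse hE
  exact ⟨isDM_of_equiv hE, isDM_of_equiv hG⟩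

end Invariance

theorem isFibSetoid_of_rep (hr : AlgSt.RepByAlgSp 𝒳) : FibCat.IsFibSetoid 𝒳.p := by
  obtain ⟨F, e, he⟩ := hr
  exact (isFibSetoid_iff_of_isEquivOver he).1 isFibSetoid_ofPsh

theorem faithful_of_rep1 (h𝒳 : FibCat.IsFibGrpd 𝒳.p) (h𝒴 : FibCat.IsFibGrpd 𝒴.p) {f : 𝒳 ⥤ᵇ 𝒴}
    (hf : AlgSt.RepByAlgSp1 f) : f.toFunctor.Faithful := by
  haveI := isFibered h𝒳
  haveI := isFibered h𝒴
  refine faithful_of_fib (presCart_of_isFibGrpd h𝒴 f) fun U a b χ χ' hχ hχ' heq => ?_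
  haveI := hχ; haveI := hχ'
  have ha : 𝒳.p.obj a = U := IsHomLift.domain_eq 𝒳.p (𝟙 U) χ
  have hfa : 𝒴.p.obj (f.obj a) = U := (f.w_obj a).trans ha
  let y : FibCat.overCat U ⥤ᵇ 𝒴 := ofObj hfa
  let i := ofObjIso hfa
  have hi : 𝒴.p.IsHomLift (𝟙 U) i.hom := ofObjIso_lift hfa
  haveI := hi
  haveI : IsIso χ := isIso_of_isHomLift h𝒳 (𝟙 U) χ
  haveI : IsIso (f.map χ) := inferInstance
  haveI : 𝒴.p.IsHomLift (𝟙 U) (f.map χ) := BasedFunctor.preserves_isHomLift f _ χ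
  let A : (FibCat.fp y f).obj := fpObj (Over.mk (𝟙 U)) a i (U := U) rfl hi
  let B : (FibCat.fp y f).obj := fpObj (Over.mk (𝟙 U)) b (i ≪≫ asIso (f.map χ)) (U := U) rfl
    (inferInstanceAs (𝒴.p.IsHomLift (𝟙 U) (i.hom ≫ f.map χ)))
  let φ : A ⟶ B := fpHom (𝟙 _) χ (by
    show y.map (𝟙 _) ≫ i.hom ≫ f.map χ = i.hom ≫ f.map χ
    simp)
  let φ' : A ⟶ B := fpHom (𝟙 _) χ' (by
    show y.map (𝟙 _) ≫ i.hom ≫ f.map χ = i.hom ≫ f.map χ'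
    simp [heq])
  haveI : (FibCat.fp y f).p.IsHomLift (𝟙 U) φ := @isHomLift_of_snd _ _ _ _ _ _ _ _ _ _ _ _ _ hχ
  haveI : (FibCat.fp y f).p.IsHomLift (𝟙 U) φ' := @isHomLift_of_snd _ _ _ _ _ _ _ _ _ _ _ _ _ hχ'
  have := hom_ext_of_thin (isFibSetoid_of_rep (hf U y)).2 (U := U) φ φ'
  exact congrArg (fun t => t.hom.snd) this

end Groth.Agent.StAlg
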