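import Groth.Agent.Lib.StAlg.Comp
import Groth.Agent.Lib.FC16.Slices
import Groth.Agent.Lib.FC16.StackFaithful

/-! The diagonal criterion, products, fibre products of algebraic stacks. -/

universe v₅ u₅ v₄ u₄ v₃ u₃ v₂ u₂ u

open CategoryTheory CategoryTheory.Functor CategoryTheory.Limits AlgebraicGeometry Opposite

set_option linter.style.haveILetI false
set_option linter.unusedSimpArgs false
set_option linter.unusedSectionVars false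
set_option linter.unusedVariables false
set_option backward.isDefEq.respectTransparency false
set_option backward.isDefEq.respectTransparency.types false

namespace Groth.Agent.StAlg

open Groth.Agent.FC16

variable {S : Scheme.{u}}

lemma rep_overCat (U : Over S) : AlgSt.RepByAlgSp (FibCat.overCat U) :=
  ⟨⟨(AlgSp.yon S).obj U, AlgSp.IsAlgSpace.yon_obj U⟩, AlgSt.toOverCat U, toOverCat_isEquivOver U⟩

lemma rep_of_isRepresentable {𝒳 : BasedCategory.{v₂, u₂} (Over S)} (h : FibCat.IsRepresentable 𝒳) :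
    AlgSt.RepByAlgSp 𝒳 := by
  obtain ⟨U, F, hF⟩ := h
  exact (repByAlgSp_congr hF).2 (rep_overCat U)

lemma isStack_ofSp (F : AlgSp.Sp S) : Stk.IsStack (QuotSh.J Scheme.fppfPrecoverage S) (AlgSt.ofSp F) :=
  (isStack_ofPsh_iff _ F.obj).2 ((isSheaf_iff_isSheaf_of_type _ _).1 F.property)

lemma isFibGrpd_of_rep {𝒳 : BasedCategory.{v₂, u₂} (Over S)} (h : AlgSt.RepByAlgSp 𝒳) :
    FibCat.IsFibGrpd 𝒳.p := (isFibSetoid_of_rep h).1

lemma selfOver_functor_iso {𝒳 : BasedCategory.{v₂, u₂} (Over S)} (A B : 𝒳 ⥤ᵇ FibCat.selfOver (Over S)) :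
    Nonempty (A ≅ B) := ⟨eqToIso (selfOver_functor_eq A B)⟩

lemma selfToTerm_isEquivOver : FibCat.IsEquivOver (selfToTerm (U := S)) :=
  haveI := selfToTerm_isEquivalence (U := S)
  isEquivOver_of _ fun b => ⟨b.left, Over.isoMk (Iso.refl _) (by
    apply Over.OverMorphism.ext
    show 𝟙 _ ≫ b.hom.left = b.left.hom
    rw [Category.id_comp]
    simpa using Over.w b.hom), IsHomLift.of_fac' _ _ _ rfl rfl (by simp [selfToTerm]; rfl)⟩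

lemma rep_selfOver : AlgSt.RepByAlgSp (FibCat.selfOver (Over S)) :=
  rep_of_isRepresentable ⟨_, _, selfToTerm_isEquivOver⟩

variable {U T : Over S} {𝒳 𝒴 𝒵 𝒲 : AlgSt.Cat S}

lemma rep_prod_overCat (U T : Over S) :
    AlgSt.RepByAlgSp (FibCat.fp (FibCat.toSelf (FibCat.overCat U)) (FibCat.toSelf (FibCat.overCat T))) :=
  rep_of_isRepresentable (isRepresentable_prod U T)

/-- the diagonal is representable iff maps from schemes are -/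
theorem rep1_diag_iff (h : FibCat.IsFibGrpd 𝒳.p) :
    AlgSt.RepByAlgSp1 (FibCat.diag (FibCat.toSelf 𝒳)) ↔
      ∀ (U : Over S) (x : FibCat.overCat U ⥤ᵇ 𝒳), AlgSt.RepByAlgSp1 x := by
  constructor
  · intro hΔ U x T y
    let ea : BasedFunctor.comp y (FibCat.toSelf 𝒳) ≅ FibCat.toSelf (FibCat.overCat T) :=
      eqToIso (selfOver_functor_eq _ _)
    let eb : BasedFunctor.comp x (FibCat.toSelf 𝒳) ≅ FibCat.toSelf (FibCat.overCat U) :=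
      eqToIso (selfOver_functor_eq _ _)
    refine (repByAlgSp_congr (diagFun_isEquivOver ea eb)).1 ?_
    obtain ⟨V, F, hF⟩ := isRepresentable_prod T U
    obtain ⟨E, hE, -, -⟩ := exists_inverse hF
    haveI := idFun_full (𝒳 := FibCat.fp (FibCat.toSelf 𝒳) (FibCat.toSelf 𝒳))
    haveI := idFun_faithful (𝒳 := FibCat.fp (FibCat.toSelf 𝒳) (FibCat.toSelf 𝒳))
    exact (repByAlgSp_congr (fpMap_isEquivOver (F := BasedFunctor.comp E (pair ea eb))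
      (G := FibCat.diag (FibCat.toSelf 𝒳)) (F' := pair ea eb) (G' := FibCat.diag (FibCat.toSelf 𝒳)) (a := E)
      (b := BasedFunctor.id 𝒳) (s := BasedFunctor.id _) (Iso.refl _) (Iso.refl _) hE isEquivOver_id)).1
      (hΔ V _)
  · intro hx U y
    let x₁ := BasedFunctor.comp y (FibCat.fpFst (FibCat.toSelf 𝒳) (FibCat.toSelf 𝒳))
    let x₂ := BasedFunctor.comp y (FibCat.fpSnd (FibCat.toSelf 𝒳) (FibCat.toSelf 𝒳))
    let ea : BasedFunctor.comp x₁ (FibCat.toSelf 𝒳) ≅ FibCat.toSelf (FibCat.overCat U) :=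
      eqToIso (selfOver_functor_eq _ _)
    let eb : BasedFunctor.comp x₂ (FibCat.toSelf 𝒳) ≅ FibCat.toSelf (FibCat.overCat U) :=
      eqToIso (selfOver_functor_eq _ _)
    have hP : AlgSt.RepByAlgSp (FibCat.fp (pair ea eb) (FibCat.diag (FibCat.toSelf 𝒳))) :=
      (repByAlgSp_congr (diagFun_isEquivOver ea eb)).2 (hx U x₂ U x₁)
    have hp : AlgSt.RepByAlgSp1 (FibCat.fpFst (pair ea eb) (FibCat.diag (FibCat.toSelf 𝒳))) :=
      rep1_of_rep hP (rep_prod_overCat U U) _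
    let δ := FibCat.diag (FibCat.toSelf (FibCat.overCat U))
    have hδ : AlgSt.RepByAlgSp (FibCat.fp (BasedFunctor.comp δ (pair ea eb)) (FibCat.diag (FibCat.toSelf 𝒳))) :=
      (repByAlgSp_congr (pasteL_isEquivOver δ (pair ea eb) (FibCat.diag (FibCat.toSelf 𝒳)))).1 (hp U δ)
    exact (repByAlgSp_of_isEquivOver_top (FibCat.fpFst y (FibCat.diag (FibCat.toSelf 𝒳)))).1
      (repOf_left (isoToFp (A := y) (B := BasedFunctor.comp δ (pair ea eb)) (Iso.refl _) (Iso.refl _))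
        ((repByAlgSp_of_isEquivOver_top (FibCat.fpFst (BasedFunctor.comp δ (pair ea eb)) _)).2 hδ))

/-- maps from schemes representable ⇒ maps from representable categories representable -/
theorem rep1_from_rep (h : FibCat.IsFibGrpd 𝒳.p)
    (hx : ∀ (U : Over S) (x : FibCat.overCat U ⥤ᵇ 𝒳), AlgSt.RepByAlgSp1 x)
    (hW : AlgSt.RepByAlgSp 𝒲) (x : 𝒲 ⥤ᵇ 𝒳) : AlgSt.RepByAlgSp1 x := fun T y =>
  (repByAlgSp_congr (fpSwap_isEquivOver x y)).1 (rep_fp (overCat_isFibGrpd T) h (hx T y) hW x)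

/-- if `h : 𝒲 ⟶ 𝒱` is representable and maps from schemes to `𝒱` are, then so are maps from schemes to `𝒲` -/
theorem forall_rep1_of_rep1 (h𝒳 : FibCat.IsFibGrpd 𝒳.p) (h𝒴 : FibCat.IsFibGrpd 𝒴.p)
    {f : 𝒳 ⥤ᵇ 𝒴} (hf : AlgSt.RepByAlgSp1 f)
    (hy : ∀ (U : Over S) (y : FibCat.overCat U ⥤ᵇ 𝒴), AlgSt.RepByAlgSp1 y) :
    ∀ (U : Over S) (x : FibCat.overCat U ⥤ᵇ 𝒳), AlgSt.RepByAlgSp1 x := fun U x => by
  let Γ : FibCat.overCat U ⥤ᵇ FibCat.fp (BasedFunctor.comp x f) f :=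
    FibCat.fpLift (BasedFunctor.id _) x (Iso.refl _)
  have hΓ : AlgSt.RepByAlgSp1 Γ :=
    rep1_of_rep (rep_overCat U) (hf U (BasedFunctor.comp x f)) Γ
  exact rep1_comp (overCat_isFibGrpd U) (fp_isFibGrpd (overCat_isFibGrpd U) h𝒳 h𝒴 _ _) hΓ
    (rep1_fpSnd f (hy U (BasedFunctor.comp x f)))

section Prod

variable {𝒳₁ 𝒳₂ 𝒴₁ 𝒴₂ : AlgSt.Cat S} {P : MorphismProperty (AlgSp.Sp S)}

theorem with_prodMap (hP : GoodP P) (h𝒳₁ : FibCat.IsFibGrpd 𝒳₁.p) (h𝒳₂ : FibCat.IsFibGrpd 𝒳₂.p)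
    (h𝒴₁ : FibCat.IsFibGrpd 𝒴₁.p) (h𝒴₂ : FibCat.IsFibGrpd 𝒴₂.p) {f₁ : 𝒳₁ ⥤ᵇ 𝒴₁} {f₂ : 𝒳₂ ⥤ᵇ 𝒴₂}
    (hf₁ : AlgSt.RepByAlgSpWith P f₁) (hf₂ : AlgSt.RepByAlgSpWith P f₂)
    (e : BasedFunctor.comp (BasedFunctor.comp (FibCat.fpFst (FibCat.toSelf 𝒳₁) (FibCat.toSelf 𝒳₂)) f₁) (FibCat.toSelf 𝒴₁) ≅
      BasedFunctor.comp (BasedFunctor.comp (FibCat.fpSnd (FibCat.toSelf 𝒳₁) (FibCat.toSelf 𝒳₂)) f₂) (FibCat.toSelf 𝒴₂)) :
    AlgSt.RepByAlgSpWith P (prodMap f₁ f₂ e) := fun U y => by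
  have h1 : RepOf P (FibCat.fpFst (BasedFunctor.comp y (FibCat.fpFst _ _)) f₁) := hf₁ U _
  have h2 := repOf_comp hP h𝒳₂ h𝒴₂ h1
    (BasedFunctor.comp (FibCat.fpFst (BasedFunctor.comp y (FibCat.fpFst _ _)) f₁)
      (BasedFunctor.comp y (FibCat.fpSnd _ _))) hf₂
  exact repOf_of_equiv (stageFun_isEquivOver y f₁ f₂ e) (Iso.refl _) h2

end Prod

theorem isStack_prestack {𝒳 : AlgSt.Cat S} (h : Stk.IsStack (QuotSh.J Scheme.fppfPrecoverage S) 𝒳) :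
    Stk.IsPrestack (QuotSh.J Scheme.fppfPrecoverage S) 𝒳 := isPrestack_of_isStack _ h

lemma isEtaleMor_of_repWith {X Y : AlgSp.Sp S} {f : X ⟶ Y} (h : AlgSp.RepWith @Etale f) : AlgSp.IsEtaleMor f :=
  fun _ φ hφ => AlgSpace.repWith_comp hφ h

lemma with_yon {P : MorphismProperty Scheme.{u}} {Q : MorphismProperty (AlgSp.Sp S)}
    (hPQ : ∀ ⦃X : AlgSp.Sp S⦄ ⦃T : Over S⦄ (b : X ⟶ (AlgSp.yon S).obj T), AlgSp.RepWith P b → Q b)
    {F : AlgSp.Sp S} {U : Over S} {p : (AlgSp.yon S).obj U ⟶ F} (hp : AlgSp.RepWith P p) :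
    AlgSt.RepByAlgSpWith Q (BasedFunctor.comp (AlgSt.ofOverCat U) (AlgSt.ofSpMap p)) := by
  have hs : AlgSp.RepBySpWith Q p.hom := (AlgSp.repBySpWith_hom_iff Q p).2 fun T ξ F' fst snd sq =>
    ⟨(AlgSp.repBySp_hom_iff p).1 (AlgSp.Representable.repBySp hp.1) ξ fst snd sq,
      hPQ snd (AlgSpace.repWith_of_isPullback sq hp)⟩
  exact (with_congr (f := Stk.ofPshMap p.hom)
    (f' := BasedFunctor.comp (AlgSt.ofOverCat U) (AlgSt.ofSpMap p)) (a := AlgSt.ofOverCat U)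
    (b := BasedFunctor.id _) (ofOverCat_isEquivOver U) isEquivOver_id (Iso.refl _)).1 (with_ofPshMap hs)

/-- representable by an algebraic space ⇒ Deligne-Mumford -/
theorem isDM_of_rep {𝒳 : BasedCategory.{v₂, u₂} (Over S)} (hr : AlgSt.RepByAlgSp 𝒳) :
    AlgSt.IsDM Scheme.fppfPrecoverage 𝒳 := by
  obtain ⟨F, e, he⟩ := hr
  refine isDM_of_equiv he ?_
  have hF : AlgSt.RepByAlgSp (AlgSt.ofSp F.obj) := ⟨F, BasedFunctor.id _, isEquivOver_id⟩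
  have hΔ := (rep1_diag_iff (Stk.isFibGrpd_ofPsh F.obj.obj)).2
    (fun U x => rep1_of_rep (rep_overCat U) hF x)
  obtain ⟨U, p, hpe, hps⟩ := F.property.atlas
  have hsurj := with_yon (Q := AlgSp.IsSurjectiveMor)
    (fun X T b hb => AlgSpace.surjective_map_of_repWith hb) hps
  refine ⟨⟨isStack_ofSp F.obj, hΔ, U, _, with_yon (Q := AlgSp.LocP @Smooth) ?_ hpe, hsurj⟩,
    U, _, with_yon (Q := AlgSp.IsEtaleMor) (fun X T b hb => isEtaleMor_of_repWith hb) hpe, hsurj⟩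
  exact fun X T b hb => AlgSpace.locP_of_repWith (AlgSp.IsAlgSpace.yon_obj T)
    (AlgSpace.repWith_mono (fun _ _ f (_ : Etale f) => (inferInstance : Smooth f)) hb)

section Fp

variable {f : 𝒳 ⥤ᵇ 𝒵} {g : 𝒴 ⥤ᵇ 𝒵}

/-- first stage of a chart of a fibre product -/
noncomputable def pasteLMapIso {𝒜 : AlgSt.Cat S} (x : 𝒜 ⥤ᵇ 𝒳) (f : 𝒳 ⥤ᵇ 𝒵) (H : 𝒲 ⥤ᵇ 𝒵) :
    BasedFunctor.comp (pasteL x f H)
      (fpMap (F := BasedFunctor.comp x f) (G := H) (F' := f) (G' := H) (a := x) (b := BasedFunctor.id 𝒲)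
        (s := BasedFunctor.id 𝒵) (Iso.refl _) (Iso.refl _)) ≅
      FibCat.fpSnd x (FibCat.fpFst f H) :=
  BasedNatIso.mkNatIso
    (NatIso.ofComponents (fun Q => fpIsoMk Q.obj.iso (Iso.refl _) (by
      show f.map Q.obj.iso.hom ≫ Q.obj.snd.obj.iso.hom =
        (𝟙 _ ≫ (f.map Q.obj.iso.hom ≫ Q.obj.snd.obj.iso.hom) ≫ 𝟙 _) ≫ H.map (𝟙 _)
      simp)) (fun {Q Q'} φ => fp_hom_ext (fp_w φ) (by
      show φ.hom.snd.hom.snd ≫ 𝟙 _ = 𝟙 _ ≫ φ.hom.snd.hom.snd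
      simp)))
    (fun Q => @isHomLift_of_fst _ _ _ _ _ _ _ _ _ _ _ _ _
      (iso_lift Q (U := (FibCat.fp x (FibCat.fpFst f H)).p.obj Q) rfl))

/-- second stage of a chart of a fibre product -/
noncomputable def pasteRMapIso (f : 𝒳 ⥤ᵇ 𝒵) (g : 𝒴 ⥤ᵇ 𝒵) {ℬ : AlgSt.Cat S} (y : ℬ ⥤ᵇ 𝒴) :
    BasedFunctor.comp (pasteR f g y)
      (fpMap (F := f) (G := BasedFunctor.comp y g) (F' := f) (G' := g) (a := BasedFunctor.id 𝒳) (b := y)
        (s := BasedFunctor.id 𝒵) (Iso.refl _) (Iso.refl _)) ≅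
      FibCat.fpFst (FibCat.fpSnd f g) y :=
  BasedNatIso.mkNatIso
    (NatIso.ofComponents (fun Q => fpIsoMk (Iso.refl _) Q.obj.iso.symm (by
      show f.map (𝟙 _) ≫ Q.obj.fst.obj.iso.hom =
        (𝟙 _ ≫ (Q.obj.fst.obj.iso.hom ≫ g.map Q.obj.iso.hom) ≫ 𝟙 _) ≫ g.map Q.obj.iso.inv
      simp [← Functor.map_comp])) (fun {Q Q'} φ => fp_hom_ext (by
      show φ.hom.fst.hom.fst ≫ 𝟙 _ = 𝟙 _ ≫ φ.hom.fst.hom.fst
      simp) (by
      show y.map φ.hom.snd ≫ Q'.obj.iso.inv = Q.obj.iso.inv ≫ φ.hom.fst.hom.snd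
      rw [Iso.eq_inv_comp, ← Category.assoc, Iso.comp_inv_eq]
      exact (fp_w φ).symm)))
    (fun Q => @isHomLift_of_fst _ _ _ _ _ _ _ _ _ _ _ _ _ (IsHomLift.id rfl))

/-- charts of a fibre product -/
lemma with_fp_map_gen {P : MorphismProperty (AlgSp.Sp S)} (hP : GoodP P) (h𝒳 : FibCat.IsFibGrpd 𝒳.p)
    (h𝒵 : FibCat.IsFibGrpd 𝒵.p) (f : 𝒳 ⥤ᵇ 𝒵) (g : 𝒴 ⥤ᵇ 𝒵)
    {𝒜 ℬ : AlgSt.Cat S} (h𝒜 : FibCat.IsFibGrpd 𝒜.p) (hℬ : FibCat.IsFibGrpd ℬ.p)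
    {x : 𝒜 ⥤ᵇ 𝒳} {y : ℬ ⥤ᵇ 𝒴}
    (hx : AlgSt.RepByAlgSpWith P x) (hy : AlgSt.RepByAlgSpWith P y) :
    AlgSt.RepByAlgSpWith P (fpMap (F := BasedFunctor.comp x f) (G := BasedFunctor.comp y g) (F' := f) (G' := g)
      (a := x) (b := y) (s := BasedFunctor.id 𝒵) (Iso.refl _) (Iso.refl _)) := by
  let M₁ := fpMap (F := BasedFunctor.comp x f) (G := BasedFunctor.comp y g) (F' := f)
    (G' := BasedFunctor.comp y g) (a := x) (b := BasedFunctor.id ℬ)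
    (s := BasedFunctor.id 𝒵) (Iso.refl _) (Iso.refl _)
  let M₂ := fpMap (F := f) (G := BasedFunctor.comp y g) (F' := f) (G' := g) (a := BasedFunctor.id 𝒳) (b := y)
    (s := BasedFunctor.id 𝒵) (Iso.refl _) (Iso.refl _)
  obtain ⟨E₁, hE₁, -, ⟨β₁⟩⟩ := exists_inverse (pasteL_isEquivOver x f (BasedFunctor.comp y g))
  have h1 : AlgSt.RepByAlgSpWith P M₁ :=
    (with_congr (f := FibCat.fpSnd x (FibCat.fpFst f (BasedFunctor.comp y g))) (f' := M₁) (a := E₁)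
      (b := BasedFunctor.id _) hE₁ isEquivOver_id
      (wrIso β₁.symm M₁ ≪≫ wlIso E₁ (pasteLMapIso x f (BasedFunctor.comp y g)))).1 (with_fpSnd _ hx)
  obtain ⟨E₂, hE₂, -, ⟨β₂⟩⟩ := exists_inverse (pasteR_isEquivOver f g y)
  have h2 : AlgSt.RepByAlgSpWith P M₂ :=
    (with_congr (f := FibCat.fpFst (FibCat.fpSnd f g) y) (f' := M₂) (a := E₂)
      (b := BasedFunctor.id _) hE₂ isEquivOver_id
      (wrIso β₂.symm M₂ ≪≫ wlIso E₂ (pasteRMapIso f g y))).1 (with_fpFst _ hy)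
  let i : BasedFunctor.comp M₁ M₂ ≅ fpMap (F := BasedFunctor.comp x f) (G := BasedFunctor.comp y g) (F' := f)
      (G' := g) (a := x) (b := y) (s := BasedFunctor.id 𝒵) (Iso.refl _) (Iso.refl _) :=
    BasedNatIso.mkNatIso
      (NatIso.ofComponents (fun Q => fpIsoMk (Iso.refl _) (Iso.refl _) (by
        show f.map (𝟙 _) ≫ (𝟙 _ ≫ Q.obj.iso.hom ≫ 𝟙 _) =
          (𝟙 _ ≫ (𝟙 _ ≫ Q.obj.iso.hom ≫ 𝟙 _) ≫ 𝟙 _) ≫ g.map (𝟙 _)
        simp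
        exact (Category.comp_id _).symm)) (fun {Q Q'} φ => fp_hom_ext
          (by show x.map φ.hom.fst ≫ 𝟙 _ = 𝟙 _ ≫ x.map φ.hom.fst; simp)
          (by show y.map φ.hom.snd ≫ 𝟙 _ = 𝟙 _ ≫ y.map φ.hom.snd; simp)))
      (fun Q => @isHomLift_of_fst _ _ _ _ _ _ _ _ _ _ _ _ _ (IsHomLift.id (x.w_obj _)))
  exact with_of_iso i (with_comp hP (fp_isFibGrpd h𝒜 hℬ h𝒵 _ _)
    (fp_isFibGrpd h𝒳 hℬ h𝒵 _ _) h1 h2)

/-- charts of a fibre product by schemes -/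
lemma with_fp_map {P : MorphismProperty (AlgSp.Sp S)} (hP : GoodP P) (h𝒳 : FibCat.IsFibGrpd 𝒳.p)
    (h𝒵 : FibCat.IsFibGrpd 𝒵.p) (f : 𝒳 ⥤ᵇ 𝒵) (g : 𝒴 ⥤ᵇ 𝒵)
    {x : FibCat.overCat U ⥤ᵇ 𝒳} {y : FibCat.overCat T ⥤ᵇ 𝒴}
    (hx : AlgSt.RepByAlgSpWith P x) (hy : AlgSt.RepByAlgSpWith P y) :
    AlgSt.RepByAlgSpWith P (fpMap (F := BasedFunctor.comp x f) (G := BasedFunctor.comp y g) (F' := f) (G' := g)
      (a := x) (b := y) (s := BasedFunctor.id 𝒵) (Iso.refl _) (Iso.refl _)) :=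
  with_fp_map_gen hP h𝒳 h𝒵 f g (overCat_isFibGrpd U) (overCat_isFibGrpd T) hx hy

theorem isAlgStack_fp {K : Precoverage Scheme.{u}} (h𝒵 : Stk.IsStack (QuotSh.J K S) 𝒵)
    (hΔ : AlgSt.RepByAlgSp1 (FibCat.diag (FibCat.toSelf 𝒵)))
    (h𝒳 : AlgSt.IsAlgStack K 𝒳) (h𝒴 : AlgSt.IsAlgStack K 𝒴)
    (f : 𝒳 ⥤ᵇ 𝒵) (g : 𝒴 ⥤ᵇ 𝒵) : AlgSt.IsAlgStack K (FibCat.fp f g) := by
  have gX := h𝒳.isStack.1
  have gY := h𝒴.isStack.1
  have gZ := h𝒵.1
  have hx := (rep1_diag_iff gX).1 h𝒳.diag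
  have hy := (rep1_diag_iff gY).1 h𝒴.diag
  have hz := (rep1_diag_iff gZ).1 hΔ
  have gW : FibCat.IsFibGrpd (FibCat.fp f g).p := fp_isFibGrpd gX gY gZ f g
  refine ⟨isStack_fp _ f g h𝒳.isStack h𝒴.isStack (isPrestack_of_isStack _ h𝒵), (rep1_diag_iff gW).2 ?_, ?_⟩
  · -- a map to the fibre product: graph into the fibre products with the two components
    intro U w
    let x := BasedFunctor.comp w (FibCat.fpFst f g)
    let y := BasedFunctor.comp w (FibCat.fpSnd f g)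
    haveI := idFun_full (𝒳 := 𝒵)
    haveI := idFun_faithful (𝒳 := 𝒵)
    let M := fpMap (F := BasedFunctor.comp x f) (G := BasedFunctor.comp y g) (F' := f) (G' := g)
      (a := x) (b := y) (s := BasedFunctor.id 𝒵) (Iso.refl _) (Iso.refl _)
    have hW : AlgSt.RepByAlgSp (FibCat.fp (BasedFunctor.comp x f) (BasedFunctor.comp y g)) :=
      rep_fp (overCat_isFibGrpd U) gZ (hz U _) (rep_overCat U) _
    let Γ : FibCat.overCat U ⥤ᵇ FibCat.fp (BasedFunctor.comp x f) (BasedFunctor.comp y g) :=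
      FibCat.fpLift (BasedFunctor.id _) (BasedFunctor.id _) (wlIso w (FibCat.fpIso f g))
    have hM : AlgSt.RepByAlgSp1 M :=
      repByAlgSp1_iff.2 (with_fp_map goodP_top gX gZ f g (repByAlgSp1_iff.1 (hx U x))
        (repByAlgSp1_iff.1 (hy U y)))
    have h := rep1_comp (overCat_isFibGrpd U) (fp_isFibGrpd (overCat_isFibGrpd U) (overCat_isFibGrpd U) gZ _ _)
      (rep1_of_rep (rep_overCat U) hW Γ) hM
    refine (rep1_congr (f := BasedFunctor.comp Γ M) (f' := w) (a := BasedFunctor.id _)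
      (b := BasedFunctor.id _) isEquivOver_id isEquivOver_id (BasedNatIso.mkNatIso
      (NatIso.ofComponents (fun a => fpIsoMk (Iso.refl _) (Iso.refl _) (by
        show f.map (𝟙 _) ≫ (𝟙 _ ≫ (w.obj a).obj.iso.hom ≫ 𝟙 _) = (w.obj a).obj.iso.hom ≫ g.map (𝟙 _)
        simp)) (fun {a b} φ => fp_hom_ext
          (by show (w.map φ).hom.fst ≫ 𝟙 _ = 𝟙 _ ≫ (w.map φ).hom.fst; simp)
          (by show (w.map φ).hom.snd ≫ 𝟙 _ = 𝟙 _ ≫ (w.map φ).hom.snd; simp)))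
      (fun a => @isHomLift_of_fst _ _ _ _ _ _ _ _ _ _ _ _ _ (IsHomLift.id ((BasedFunctor.comp w (FibCat.fpFst f g)).w_obj a))))).1 h
  · obtain ⟨U, x, hxP, hxs⟩ := h𝒳.atlas
    obtain ⟨T, y, hyP, hys⟩ := h𝒴.atlas
    have hW : AlgSt.RepByAlgSp (FibCat.fp (BasedFunctor.comp x f) (BasedFunctor.comp y g)) :=
      rep_fp (overCat_isFibGrpd T) gZ (hz T _) (rep_overCat U) _
    obtain ⟨W, w, hwP, hws⟩ := (isDM_of_rep hW).1.atlas
    exact ⟨W, BasedFunctor.comp w _,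
      with_comp goodP_locP (overCat_isFibGrpd W) (isFibGrpd_of_rep hW) hwP (with_fp_map goodP_locP gX gZ f g hxP hyP),
      with_comp goodP_surjective (overCat_isFibGrpd W) (isFibGrpd_of_rep hW) hws
        (with_fp_map goodP_surjective gX gZ f g hxs hys)⟩

theorem isAlgStack_prod (h𝒳 : AlgSt.IsAlgStack Scheme.fppfPrecoverage 𝒳)
    (h𝒴 : AlgSt.IsAlgStack Scheme.fppfPrecoverage 𝒴) :
    AlgSt.IsAlgStack Scheme.fppfPrecoverage (FibCat.fp (FibCat.toSelf 𝒳) (FibCat.toSelf 𝒴)) :=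
  isAlgStack_fp (isDM_of_rep rep_selfOver).1.isStack (isDM_of_rep rep_selfOver).1.diag h𝒳 h𝒴 _ _

end Fp

end Groth.Agent.StAlg
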