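import Groth.Agent.Lib.StAlg.Comp
import Groth.Agent.Lib.AlgSpDescent.RepBase
import Groth.Agent.Lib.AlgSpDescent.Instances
import Groth.Agent.Lib.AlgSpDescent.Covers
import Groth.Agent.Lib.AlgSpDescent.FpqcTop
import Groth.Agent.Lib.AlgSpace.Affine
import Groth.Agent.Lib.AlgSpace.ImmDescent
import Groth.Agent.Lib.AlgSpace.Proper
import Groth.Agent.Lib.AlgSpace.QC

/-! The standard properties of morphisms of algebraic spaces compose and descend. -/

universe u

open CategoryTheory CategoryTheory.Limits AlgebraicGeometry Opposite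

set_option linter.style.haveILetI false
set_option linter.unusedVariables false
set_option backward.isDefEq.respectTransparency false
set_option backward.isDefEq.respectTransparency.types false

namespace Groth.Agent.StAlg

open Groth.Agent.AlgSpace Groth.Agent.AlgSpDescent

variable {S : Scheme.{u}} {P Q : MorphismProperty (AlgSp.Sp S)}

/-- stability under base change along algebraic spaces -/
def PbP (P : MorphismProperty (AlgSp.Sp S)) : Prop :=
  ∀ ⦃X₁ Y₁ X₂ Y₂ : AlgSp.Sp S⦄, AlgSp.IsAlgSpace X₁ → AlgSp.IsAlgSpace Y₁ → AlgSp.IsAlgSpace X₂ →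
    AlgSp.IsAlgSpace Y₂ → ∀ (a : X₁ ⟶ Y₁) (b : Y₂ ⟶ Y₁) (a' : X₂ ⟶ Y₂) (b' : X₂ ⟶ X₁),
    IsPullback b' a' a b → P a → P a'

lemma isLocalOnBase_fppf_of_fpqc (h : AlgSp.IsLocalOnBase AlgSp.IsFpqcCover P) :
    AlgSp.IsLocalOnBase AlgSp.IsFppfCover P :=
  fun ι Y Yi g hY hYi hg => h Yi g hY hYi (isFpqcCover_of_isFppfCover hY hYi hg)

lemma goodP_of_fpqc (hb : PbP P)
    (hc : ∀ ⦃X Y Z : AlgSp.Sp S⦄, AlgSp.IsAlgSpace X → AlgSp.IsAlgSpace Y → AlgSp.IsAlgSpace Z →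
      ∀ (a : X ⟶ Y) (b : Y ⟶ Z), P a → P b → P (a ≫ b))
    (h : AlgSp.IsLocalOnBase AlgSp.IsFpqcCover P) : GoodP P :=
  goodP_of_local hb hc (isLocalOnBase_fppf_of_fpqc h)

lemma GoodP.inf (hP : GoodP P) (hQ : GoodP Q) : GoodP (P ⊓ Q) :=
  ⟨fun X Y hX hY e U a h => ⟨hP.preIso hX hY e a h.1, hQ.preIso hX hY e a h.2⟩,
    fun G X hG hX a h => ⟨hP.desc hG hX a (fun U ξ F' fst snd sq => by
        obtain ⟨hs, hA, hp, -⟩ := h ξ fst snd sq
        exact ⟨hs, hA, hp⟩),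
      hQ.desc hG hX a (fun U ξ F' fst snd sq => by
        obtain ⟨hs, hA, -, hq⟩ := h ξ fst snd sq
        exact ⟨hs, hA, hq⟩)⟩,
    fun X Y Z hX hY hZ a b ha hb => ⟨hP.comp hX hY hZ a b ha.1 hb.1, hQ.comp hX hY hZ a b ha.2 hb.2⟩⟩

lemma goodP_mono : GoodP (MorphismProperty.monomorphisms (AlgSp.Sp S)) :=
  goodP_of_fpqc (fun X₁ Y₁ X₂ Y₂ _ _ _ _ a b a' b' sq h => MorphismProperty.of_isPullback sq h)
    (fun X Y Z _ _ _ a b (ha : Mono a) (hb : Mono b) => (inferInstance : Mono (a ≫ b)))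
    isLocalOnBase_fpqc_monomorphisms

lemma pbP_isEtaleMor : PbP (AlgSp.IsEtaleMor (S := S)) :=
  fun X₁ Y₁ X₂ Y₂ h₁ h₂ h₃ h₄ a b a' b' sq h =>
    (isEtaleMor_iff_locP h₃ h₄ a').2 (locP_of_isPullback h₁ h₂ h₄ sq ((isEtaleMor_iff_locP h₁ h₂ a).1 h))

lemma goodP_isEtaleMor : GoodP (AlgSp.IsEtaleMor (S := S)) :=
  goodP_of_fpqc pbP_isEtaleMor
    (fun X Y Z hX hY hZ a b ha hb => (isEtaleMor_iff_locP hX hZ (a ≫ b)).2
      (locP_comp hX hY hZ ((isEtaleMor_iff_locP hX hY a).1 ha) ((isEtaleMor_iff_locP hY hZ b).1 hb)))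
    isLocalOnBase_fpqc_isEtaleMor

lemma goodP_isQuasiCompactMor : GoodP (AlgSp.IsQuasiCompactMor (S := S)) :=
  goodP_of_fpqc (fun X₁ Y₁ X₂ Y₂ _ _ _ _ a b a' b' sq h => isQuasiCompactMor_of_isPullback sq h)
    (fun X Y Z _ hY hZ a b ha hb => isQuasiCompactMor_comp hY hZ ha hb)
    isLocalOnBase_fpqc_isQuasiCompactMor

lemma goodP_isQuasiSeparatedMor : GoodP (AlgSp.IsQuasiSeparatedMor (S := S)) :=
  goodP_of_fpqc (fun X₁ Y₁ X₂ Y₂ _ _ _ _ a b a' b' sq h => isQuasiSeparatedMor_of_isPullback sq h)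
    (fun X Y Z _ _ _ a b ha hb => repWith_diagonal_comp ha hb)
    isLocalOnBase_fpqc_isQuasiSeparatedMor

lemma goodP_isSeparatedMor : GoodP (AlgSp.IsSeparatedMor (S := S)) :=
  goodP_of_fpqc (fun X₁ Y₁ X₂ Y₂ _ _ _ _ a b a' b' sq h => isSeparatedMor_of_isPullback sq h)
    (fun X Y Z _ _ _ a b ha hb => repWith_diagonal_comp ha hb)
    isLocalOnBase_fpqc_isSeparatedMor

lemma isLocalOnBase_fpqc_isProperMor :
    AlgSp.IsLocalOnBase (AlgSp.IsFpqcCover (S := S)) AlgSp.IsProperMor :=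
  isLocalOnBase_and isLocalOnBase_fpqc_isSeparatedMor (isLocalOnBase_and (isLocalOnBase_and
    (isLocalOnBase_fpqc_locP precompEtale_lft descendsEtaleSource_locallyOfFiniteType)
    isLocalOnBase_fpqc_isQuasiCompactMor) isLocalOnBase_fpqc_isUnivClosedMor)

lemma goodP_isProperMor : GoodP (AlgSp.IsProperMor (S := S)) :=
  goodP_of_fpqc (fun X₁ Y₁ X₂ Y₂ h₁ h₂ _ h₄ a b a' b' sq h => isProperMor_of_isPullback h₁ h₂ h₄ sq h)
    (fun X Y Z hX hY hZ a b ha hb => isProperMor_comp hX hY hZ ha hb)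
    isLocalOnBase_fpqc_isProperMor

/-- properties of representable morphisms descending along etale covers by schemes -/
lemma goodP_repWith {P : MorphismProperty Scheme.{u}} [P.IsStableUnderBaseChange] [P.IsStableUnderComposition]
    (hd : ∀ ⦃X Y : AlgSp.Sp S⦄ (f : X ⟶ Y) ⦃V : Over S⦄ (p : (AlgSp.yon S).obj V ⟶ Y),
      AlgSp.RepWith @Etale p → AlgSp.RepWith @Surjective p → ∀ ⦃P₀ : AlgSp.Sp S⦄ (fst : P₀ ⟶ X)
      (snd : P₀ ⟶ (AlgSp.yon S).obj V), IsPullback fst snd f p → AlgSp.RepWith P snd → AlgSp.RepWith P f) :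
    GoodP (AlgSp.RepWith (S := S) P) := by
  refine ⟨preIso_of_pullback fun X₁ Y₁ X₂ Y₂ _ _ _ _ a b a' b' sq h => repWith_of_isPullback sq h,
    fun G X hG hX a h => ?_, fun X Y Z _ _ _ a b ha hb => repWith_comp ha hb⟩
  obtain ⟨V, p, he, hs⟩ := hX.atlas
  have sq := IsPullback.of_hasPullback a p
  exact hd a p he hs _ _ sq ((AlgSp.repBySpWith_hom_iff _ a).1 h p _ _ sq).2

lemma goodP_openImm : GoodP (AlgSp.RepWith (S := S) @IsOpenImmersion) :=
  goodP_repWith fun X Y f V p he hs P₀ fst snd sq h => repWith_openImmersion_of_etale_cover he hs sq h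

lemma goodP_closedImm : GoodP (AlgSp.RepWith (S := S) @IsClosedImmersion) :=
  goodP_repWith fun X Y f V p he hs P₀ fst snd sq h => repWith_closedImmersion_of_etale_cover f p he hs sq h

lemma goodP_imm : GoodP (AlgSp.RepWith (S := S) @IsImmersion) :=
  goodP_repWith fun X Y f V p he hs P₀ fst snd sq h => repWith_immersion_of_etale_cover he hs sq h

lemma goodP_isAffineMor : GoodP (AlgSp.IsAffineMor (S := S)) := by
  have e : (AlgSp.IsAffineMor (S := S)) = AlgSp.RepWith @IsAffineHom := by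
    ext X Y f
    exact isAffineMor_iff_repWith
  rw [e]
  exact goodP_repWith fun X Y f V p he hs P₀ fst snd sq h =>
    isAffineMor_iff_repWith.1 (isAffineMor_of_etale_cover f p he hs sq (isAffineMor_iff_repWith.2 h))

lemma goodP_isIntegralMor : GoodP (AlgSp.IsIntegralMor (S := S)) := by
  have e : (AlgSp.IsIntegralMor (S := S)) = AlgSp.RepWith @IsIntegralHom := by
    ext X Y f
    exact isIntegralMor_iff_repWith
  rw [e]
  exact goodP_repWith fun X Y f V p he hs P₀ fst snd sq h =>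
    isIntegralMor_iff_repWith.1 (isIntegralMor_of_etale_cover f p he hs sq (isIntegralMor_iff_repWith.2 h))

lemma goodP_isFiniteMor : GoodP (AlgSp.IsFiniteMor (S := S)) := by
  have e : (AlgSp.IsFiniteMor (S := S)) = AlgSp.RepWith @IsFinite := by
    ext X Y f
    exact isFiniteMor_iff_repWith
  rw [e]
  exact goodP_repWith fun X Y f V p he hs P₀ fst snd sq h =>
    isFiniteMor_iff_repWith.1 (isFiniteMor_of_etale_cover f p he hs sq (isFiniteMor_iff_repWith.2 h))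

end Groth.Agent.StAlg
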