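import Groth.Agent.Lib.StAlg.Diag
import Groth.Agent.Lib.StAlg.Props
import Groth.Agent.Lib.AlgSpace.MorDiag

/-! Diagonals of functors over the base: base change, composition, graphs, sections, cancellation. -/

universe u

open CategoryTheory CategoryTheory.Functor CategoryTheory.Limits AlgebraicGeometry Opposite

set_option linter.style.haveILetI false
set_option linter.unusedSimpArgs false
set_option linter.unusedSectionVars false
set_option linter.unusedVariables false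
set_option backward.isDefEq.respectTransparency false
set_option backward.isDefEq.respectTransparency.types false

namespace Groth.Agent.StAlg

open Groth.Agent.FC16

variable {S : Scheme.{u}} {U T : Over S} {P Q : MorphismProperty (AlgSp.Sp S)}
  {𝒳 𝒴 𝒵 𝒯 𝒳' 𝒴' : AlgSt.Cat S}

lemma comp_map_id_aux {A B D : Type*} [Category A] [Category B] [Category D] {X : A} {Y : B}
    {F : A ⥤ D} {G : B ⥤ D} (i : G.obj Y ≅ F.obj X) :
    F.map (𝟙 X) ≫ 𝟙 _ = (i.inv ≫ G.map (𝟙 Y) ≫ i.hom) ≫ F.map (𝟙 X) := by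
  simp

/-- the diagonal of an equivalent functor -/
theorem with_diag_congr {f : 𝒳 ⥤ᵇ 𝒴} {f' : 𝒳' ⥤ᵇ 𝒴'} {a : 𝒳' ⥤ᵇ 𝒳} {b : 𝒴' ⥤ᵇ 𝒴}
    (ha : FibCat.IsEquivOver a) (hb : FibCat.IsEquivOver b) (e : BasedFunctor.comp f' b ≅ BasedFunctor.comp a f) :
    AlgSt.RepByAlgSpWith P (FibCat.diag f) ↔ AlgSt.RepByAlgSpWith P (FibCat.diag f') := by
  haveI := isEquivalence_of_isEquivOver hb
  let M : FibCat.fp f' f' ⥤ᵇ FibCat.fp f f :=
    fpMap (F := f') (G := f') (F' := f) (G' := f) (a := a) (b := a) (s := b) e.symm e.symm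
  let i : BasedFunctor.comp (FibCat.diag f') M ≅ BasedFunctor.comp a (FibCat.diag f) :=
    BasedNatIso.mkNatIso
      (NatIso.ofComponents (fun x => fpIsoMk (Iso.refl _) (Iso.refl _) (by
        show f.map (𝟙 _) ≫ 𝟙 _ = ((appIso e x).inv ≫ b.map (𝟙 _) ≫ (appIso e x).hom) ≫ f.map (𝟙 _)
        exact comp_map_id_aux (F := f.toFunctor) (G := b.toFunctor) (appIso e x))) (fun {x y} φ => fp_hom_ext
          (by show a.map φ ≫ 𝟙 _ = 𝟙 _ ≫ a.map φ; simp)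
          (by show a.map φ ≫ 𝟙 _ = 𝟙 _ ≫ a.map φ; simp)))
      (fun x => @isHomLift_of_fst _ _ _ _ _ _ _ _ _ _ _ _ _ (IsHomLift.id (a.w_obj x)))
  exact with_congr ha (fpMap_isEquivOver _ _ ha ha) i

theorem with_diag_of_iso {f f' : 𝒳 ⥤ᵇ 𝒴} (i : f ≅ f') (h : AlgSt.RepByAlgSpWith P (FibCat.diag f)) :
    AlgSt.RepByAlgSpWith P (FibCat.diag f') :=
  (with_diag_congr (f := f) (f' := f') (a := BasedFunctor.id 𝒳) (b := BasedFunctor.id 𝒴) isEquivOver_id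
    isEquivOver_id i.symm).1 h

section BaseChange

variable (f : 𝒳 ⥤ᵇ 𝒴) (g : 𝒵 ⥤ᵇ 𝒴)

/-- the map of squares of a base change -/
noncomputable def bcMap : FibCat.fp (FibCat.fpFst g f) (FibCat.fpFst g f) ⥤ᵇ FibCat.fp f f :=
  fpMap (F := FibCat.fpFst g f) (G := FibCat.fpFst g f) (F' := f) (G' := f) (a := FibCat.fpSnd g f)
    (b := FibCat.fpSnd g f) (s := g) (FibCat.fpIso g f).symm (FibCat.fpIso g f).symm

/-- compatibility of the diagonals -/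
noncomputable def bcIso : BasedFunctor.comp (FibCat.diag (FibCat.fpFst g f)) (bcMap f g) ≅
    BasedFunctor.comp (FibCat.fpSnd g f) (FibCat.diag f) :=
  BasedNatIso.mkNatIso
    (NatIso.ofComponents (fun x => fpIsoMk (Iso.refl _) (Iso.refl _) (by
      show f.map (𝟙 _) ≫ 𝟙 _ = (x.obj.iso.inv ≫ g.map (𝟙 _) ≫ x.obj.iso.hom) ≫ f.map (𝟙 _)
      simp)) (fun {x y} φ => fp_hom_ext
        (by show φ.hom.snd ≫ 𝟙 _ = 𝟙 _ ≫ φ.hom.snd; simp)
        (by show φ.hom.snd ≫ 𝟙 _ = 𝟙 _ ≫ φ.hom.snd; simp)))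
    (fun x => @isHomLift_of_fst _ _ _ _ _ _ _ _ _ _ _ _ _ (IsHomLift.id (snd_p x)))

/-- the diagonal of a base change is a base change of the diagonal -/
noncomputable def bcFun : FibCat.fp g f ⥤ᵇ FibCat.fp (bcMap f g) (FibCat.diag f) :=
  FibCat.fpLift (FibCat.diag (FibCat.fpFst g f)) (FibCat.fpSnd g f) (bcIso f g)

lemma bcFun_isEquivOver : FibCat.IsEquivOver (bcFun f g) := by
  have : (bcFun f g).toFunctor.Faithful := ⟨fun {a b φ φ'} h => congrArg (fun t => t.hom.fst.hom.fst) h⟩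
  have : (bcFun f g).toFunctor.Full := ⟨fun {a b} ψ => by
    have h0 : ψ.hom.fst.hom.fst.hom.fst = ψ.hom.fst.hom.snd.hom.fst := by
      have h : ψ.hom.fst.hom.fst.hom.fst ≫ 𝟙 _ = 𝟙 _ ≫ ψ.hom.fst.hom.snd.hom.fst := fp_w ψ.hom.fst
      simpa using h
    have h1 : ψ.hom.fst.hom.fst.hom.snd = ψ.hom.snd := by
      have h : ψ.hom.fst.hom.fst.hom.snd ≫ 𝟙 _ = 𝟙 _ ≫ ψ.hom.snd := congrArg (fun t => t.hom.fst) (fp_w ψ)
      simpa using h
    have h2 : ψ.hom.fst.hom.snd.hom.snd = ψ.hom.snd := by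
      have h : ψ.hom.fst.hom.snd.hom.snd ≫ 𝟙 _ = 𝟙 _ ≫ ψ.hom.snd := congrArg (fun t => t.hom.snd) (fp_w ψ)
      simpa using h
    exact ⟨ψ.hom.fst.hom.fst,
      fp_hom_ext (fp_hom_ext rfl (fp_hom_ext h0 (h1.trans h2.symm))) h1⟩⟩
  refine isEquivOver_of _ fun η => ?_
  let a := η.obj.fst.obj.fst
  let b := η.obj.fst.obj.snd
  haveI hηlift := iso_lift η (U := (FibCat.fp (bcMap f g) (FibCat.diag f)).p.obj η) rfl
  let i₁ : a.obj.snd ≅ η.obj.snd :=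
    (FibCat.fpFst f f).toFunctor.mapIso η.obj.iso
  let i₂ : b.obj.snd ≅ η.obj.snd :=
    (FibCat.fpSnd f f).toFunctor.mapIso η.obj.iso
  let δ : a.obj.fst ≅ b.obj.fst := η.obj.fst.obj.iso
  have hw : f.map i₁.hom ≫ 𝟙 _ = (a.obj.iso.inv ≫ g.map δ.hom ≫ b.obj.iso.hom) ≫ f.map i₂.hom :=
    fp_w η.obj.iso.hom
  have hk : g.map δ.hom ≫ b.obj.iso.hom = a.obj.iso.hom ≫ f.map (i₁ ≪≫ i₂.symm).hom := by
    rw [Category.comp_id] at hw
    have hi : f.map i₂.hom ≫ f.map i₂.inv = 𝟙 _ := by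
      rw [← Functor.map_comp, i₂.hom_inv_id, CategoryTheory.Functor.map_id]
    rw [Iso.trans_hom, Iso.symm_hom, Functor.map_comp, hw]
    simp only [Category.assoc, Iso.hom_inv_id_assoc, hi, Category.comp_id]
  let k : a ≅ b := fpIsoMk δ (i₁ ≪≫ i₂.symm) hk
  refine ⟨a, fpIsoMk (fpIsoMk (Iso.refl a) k ?_) i₁ ?_, ?_⟩
  · show 𝟙 _ ≫ δ.hom = 𝟙 _ ≫ δ.hom
    rfl
  · apply fp_hom_ext
    · show 𝟙 _ ≫ i₁.hom = 𝟙 _ ≫ i₁.hom
      rfl
    · show (i₁.hom ≫ i₂.inv) ≫ i₂.hom = 𝟙 _ ≫ i₁.hom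
      simp
  · exact @isHomLift_of_fst _ _ _ _ _ _ _ _ _ _ _ _ _
      (@isHomLift_of_fst _ _ _ _ _ _ _ _ _ _ _ _ _ (IsHomLift.id rfl))

theorem with_diag_fpFst (h : AlgSt.RepByAlgSpWith P (FibCat.diag f)) :
    AlgSt.RepByAlgSpWith P (FibCat.diag (FibCat.fpFst g f)) :=
  (with_congr (f := FibCat.fpFst (bcMap f g) (FibCat.diag f)) (f' := FibCat.diag (FibCat.fpFst g f))
    (a := bcFun f g) (b := BasedFunctor.id _) (bcFun_isEquivOver f g) isEquivOver_id (Iso.refl _)).1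
    (with_fpFst _ h)

/-- conditions on diagonals can be checked after base change to schemes -/
theorem with_diag_of_forall
    (h : ∀ (T : Over S) (w : FibCat.overCat T ⥤ᵇ 𝒴), AlgSt.RepByAlgSpWith P (FibCat.diag (FibCat.fpFst w f))) :
    AlgSt.RepByAlgSpWith P (FibCat.diag f) := fun T y => by
  let w := BasedFunctor.comp (BasedFunctor.comp y (FibCat.fpFst f f)) f
  let s₁ : FibCat.overCat T ⥤ᵇ FibCat.fp w f :=
    FibCat.fpLift (BasedFunctor.id _) (BasedFunctor.comp y (FibCat.fpFst f f)) (Iso.refl _)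
  let s₂ : FibCat.overCat T ⥤ᵇ FibCat.fp w f :=
    FibCat.fpLift (BasedFunctor.id _) (BasedFunctor.comp y (FibCat.fpSnd f f)) (wlIso y (FibCat.fpIso f f))
  let y' : FibCat.overCat T ⥤ᵇ FibCat.fp (FibCat.fpFst w f) (FibCat.fpFst w f) :=
    FibCat.fpLift s₁ s₂ (Iso.refl _)
  have h1 : AlgSt.RepByAlgSpWith P (FibCat.fpFst (bcMap f w) (FibCat.diag f)) :=
    (with_congr (f := FibCat.fpFst (bcMap f w) (FibCat.diag f)) (f' := FibCat.diag (FibCat.fpFst w f))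
      (a := bcFun f w) (b := BasedFunctor.id _) (bcFun_isEquivOver f w) isEquivOver_id (Iso.refl _)).2 (h T w)
  let i : y ≅ BasedFunctor.comp y' (bcMap f w) :=
    BasedNatIso.mkNatIso
      (NatIso.ofComponents (fun a => fpIsoMk (Iso.refl _) (Iso.refl _) (by
        show f.map (𝟙 _) ≫ (𝟙 _ ≫ w.map (𝟙 _) ≫ (y.obj a).obj.iso.hom) = (y.obj a).obj.iso.hom ≫ f.map (𝟙 _)
        simp
        exact Category.id_comp _)) (fun {a b} φ => fp_hom_ext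
          (by show (y.map φ).hom.fst ≫ 𝟙 _ = 𝟙 _ ≫ (y.map φ).hom.fst; simp)
          (by show (y.map φ).hom.snd ≫ 𝟙 _ = 𝟙 _ ≫ (y.map φ).hom.snd; simp)))
      (fun a => @isHomLift_of_fst _ _ _ _ _ _ _ _ _ _ _ _ _ (IsHomLift.id (y.w_obj a)))
  exact repOf_left i (repOf_of_equiv (pasteL_isEquivOver y' (bcMap f w) (FibCat.diag f)) (Iso.refl _) (h1 T y'))

end BaseChange

section Comparison

variable {f : 𝒳 ⥤ᵇ 𝒵} {g : 𝒴 ⥤ᵇ 𝒵} {t : 𝒵 ⥤ᵇ 𝒯}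

/-- the comparison of fibre products against the base change of the diagonal -/
theorem with_cmp_iff
    (e : BasedFunctor.comp (FibCat.fpFst f g) (BasedFunctor.comp f t) ≅
      BasedFunctor.comp (FibCat.fpSnd f g) (BasedFunctor.comp g t))
    (he : ∀ x, e.hom.toNatTrans.app x = t.map x.obj.iso.hom) :
    AlgSt.RepByAlgSpWith P (FibCat.fpFst (pair (Iso.refl (BasedFunctor.comp f t)) (Iso.refl (BasedFunctor.comp g t)))
      (FibCat.diag t)) ↔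
    AlgSt.RepByAlgSpWith P (FibCat.fpLift (FibCat.fpFst f g) (FibCat.fpSnd f g) e) := by
  let ea : BasedFunctor.comp f t ≅ BasedFunctor.comp f t := Iso.refl _
  let eb : BasedFunctor.comp g t ≅ BasedFunctor.comp g t := Iso.refl _
  obtain ⟨E, hE, -, ⟨β⟩⟩ := exists_inverse (diagFun_isEquivOver ea eb)
  let C := FibCat.fpLift (FibCat.fpFst f g) (FibCat.fpSnd f g) e
  let π := FibCat.fpFst (pair ea eb) (FibCat.diag t)
  let j : BasedFunctor.comp (diagFun ea eb) C ≅ π :=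
    BasedNatIso.mkNatIso
      (NatIso.ofComponents (fun Q => fpIsoMk (Iso.refl _) (Iso.refl _) (by
        let i₂ := (FibCat.fpSnd t t).toFunctor.mapIso Q.obj.iso
        have hi : t.map i₂.hom ≫ t.map i₂.inv = 𝟙 _ := by
          rw [← Functor.map_comp, i₂.hom_inv_id, CategoryTheory.Functor.map_id]
        have h' : t.map Q.obj.iso.hom.hom.fst ≫ 𝟙 _ =
            (𝟙 _ ≫ Q.obj.fst.obj.iso.hom ≫ 𝟙 _) ≫ t.map Q.obj.iso.hom.hom.snd := fp_w Q.obj.iso.hom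
        have hk : t.map (diagFunIso ea eb Q).hom = Q.obj.fst.obj.iso.hom := by
          show t.map (Q.obj.iso.hom.hom.fst ≫ i₂.inv) = _
          rw [Category.comp_id] at h'
          rw [Functor.map_comp, h']
          show ((𝟙 _ ≫ Q.obj.fst.obj.iso.hom ≫ 𝟙 _) ≫ t.map i₂.hom) ≫ t.map i₂.inv = _
          rw [Category.assoc, hi]
          simp
          exact Category.comp_id _
        show t.map (f.map (𝟙 _)) ≫ Q.obj.fst.obj.iso.hom = e.hom.toNatTrans.app ((diagFun ea eb).obj Q) ≫ t.map (g.map (𝟙 _))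
        rw [he]
        show _ = t.map (diagFunIso ea eb Q).hom ≫ _
        rw [hk]
        simp
        exact (Category.comp_id _).symm)) (fun {Q Q'} φ => fp_hom_ext
          (by show φ.hom.fst.hom.fst ≫ 𝟙 _ = 𝟙 _ ≫ φ.hom.fst.hom.fst; simp)
          (by show φ.hom.fst.hom.snd ≫ 𝟙 _ = 𝟙 _ ≫ φ.hom.fst.hom.snd; simp)))
      (fun Q => @isHomLift_of_fst _ _ _ _ _ _ _ _ _ _ _ _ _ (IsHomLift.id rfl))
  exact with_congr (f := π) (f' := C) (a := E) (b := BasedFunctor.id _) hE isEquivOver_id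
    (wrIso β.symm C ≪≫ wlIso E j)

/-- the comparison of fibre products is a base change of the diagonal -/
theorem with_cmp (h : AlgSt.RepByAlgSpWith P (FibCat.diag t))
    (e : BasedFunctor.comp (FibCat.fpFst f g) (BasedFunctor.comp f t) ≅
      BasedFunctor.comp (FibCat.fpSnd f g) (BasedFunctor.comp g t))
    (he : ∀ x, e.hom.toNatTrans.app x = t.map x.obj.iso.hom) :
    AlgSt.RepByAlgSpWith P (FibCat.fpLift (FibCat.fpFst f g) (FibCat.fpSnd f g) e) := by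
  exact (with_cmp_iff e he).1 (with_fpFst _ h)

/-- the canonical comparison -/
noncomputable def cmp (f : 𝒳 ⥤ᵇ 𝒵) (g : 𝒴 ⥤ᵇ 𝒵) (t : 𝒵 ⥤ᵇ 𝒯) :
    FibCat.fp f g ⥤ᵇ FibCat.fp (BasedFunctor.comp f t) (BasedFunctor.comp g t) :=
  FibCat.fpLift (FibCat.fpFst f g) (FibCat.fpSnd f g) (wrIso (FibCat.fpIso f g) t)

theorem with_cmp' (f : 𝒳 ⥤ᵇ 𝒵) (g : 𝒴 ⥤ᵇ 𝒵) {t : 𝒵 ⥤ᵇ 𝒯} (h : AlgSt.RepByAlgSpWith P (FibCat.diag t)) :
    AlgSt.RepByAlgSpWith P (cmp f g t) := with_cmp h _ (fun _ => rfl)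

end Comparison

section Graph

/-- the graph is a base change of the diagonal -/
theorem with_graph {p : 𝒳 ⥤ᵇ 𝒯} {q : 𝒴 ⥤ᵇ 𝒯} (g : 𝒳 ⥤ᵇ 𝒴)
    (e : BasedFunctor.comp (BasedFunctor.id 𝒳) p ≅ BasedFunctor.comp g q)
    (h : AlgSt.RepByAlgSpWith P (FibCat.diag q)) :
    AlgSt.RepByAlgSpWith P (FibCat.fpLift (BasedFunctor.id 𝒳) g e) := by
  let L : 𝒳 ⥤ᵇ FibCat.fp g (BasedFunctor.id 𝒴) := FibCat.fpLift (BasedFunctor.id 𝒳) g (Iso.refl _)
  have hL : FibCat.IsEquivOver L :=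
    ⟨FibCat.fpFst _ _, ⟨Iso.refl _⟩, ⟨BasedNatIso.mkNatIso
      (NatIso.ofComponents (fun x => fpIsoMk (Iso.refl _) x.obj.iso (by
        show g.map (𝟙 _) ≫ x.obj.iso.hom = 𝟙 _ ≫ x.obj.iso.hom
        simp)) (fun {x y} φ => fp_hom_ext
          (by show φ.hom.fst ≫ 𝟙 _ = 𝟙 _ ≫ φ.hom.fst; simp) (fp_w φ)))
      (fun x => @isHomLift_of_fst _ _ _ _ _ _ _ _ _ _ _ _ _ (IsHomLift.id rfl))⟩⟩
  haveI := idFun_full (𝒳 := 𝒯)
  haveI := idFun_faithful (𝒳 := 𝒯)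
  let M : FibCat.fp p q ⥤ᵇ FibCat.fp (BasedFunctor.comp g q) (BasedFunctor.comp (BasedFunctor.id 𝒴) q) :=
    fpMap (F := p) (G := q) (F' := BasedFunctor.comp g q) (G' := BasedFunctor.comp (BasedFunctor.id 𝒴) q)
      (a := BasedFunctor.id 𝒳) (b := BasedFunctor.id 𝒴) (s := BasedFunctor.id 𝒯) e.symm (Iso.refl _)
  let Γ := FibCat.fpLift (BasedFunctor.id 𝒳) g e
  let i : BasedFunctor.comp Γ M ≅ BasedFunctor.comp L (cmp g (BasedFunctor.id 𝒴) q) :=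
    BasedNatIso.mkNatIso
      (NatIso.ofComponents (fun x => fpIsoMk (Iso.refl _) (Iso.refl _) (by
        show q.map (g.map (𝟙 _)) ≫ q.map (𝟙 _) = ((appIso e x).inv ≫ (appIso e x).hom ≫ 𝟙 _) ≫ q.map (𝟙 _)
        simp)) (fun {x y} φ => fp_hom_ext
          (by show φ ≫ 𝟙 _ = 𝟙 _ ≫ φ; simp)
          (by show g.map φ ≫ 𝟙 _ = 𝟙 _ ≫ g.map φ; simp)))
      (fun x => @isHomLift_of_fst _ _ _ _ _ _ _ _ _ _ _ _ _ (IsHomLift.id rfl))
  exact (with_congr (f := cmp g (BasedFunctor.id 𝒴) q) (f' := Γ) (a := L) (b := M) hL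
    (fpMap_isEquivOver _ _ isEquivOver_id isEquivOver_id) i).1 (with_cmp' _ _ h)

/-- sections are base changes of the diagonal -/
theorem with_section {f : 𝒳 ⥤ᵇ 𝒯} (s : 𝒯 ⥤ᵇ 𝒳) (e : BasedFunctor.comp s f ≅ BasedFunctor.id 𝒯)
    (h : AlgSt.RepByAlgSpWith P (FibCat.diag f)) : AlgSt.RepByAlgSpWith P s := by
  let L : 𝒳 ⥤ᵇ FibCat.fp (BasedFunctor.id 𝒯) f := FibCat.fpLift f (BasedFunctor.id 𝒳) (Iso.refl _)
  have hL : FibCat.IsEquivOver L :=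
    ⟨FibCat.fpSnd _ _, ⟨Iso.refl _⟩, ⟨BasedNatIso.mkNatIso
      (NatIso.ofComponents (fun x => fpIsoMk x.obj.iso.symm (Iso.refl _) (by
        show x.obj.iso.inv ≫ x.obj.iso.hom = 𝟙 _ ≫ f.map (𝟙 _)
        simp)) (fun {x y} φ => fp_hom_ext (by
          show f.map φ.hom.snd ≫ y.obj.iso.inv = x.obj.iso.inv ≫ φ.hom.fst
          rw [Iso.eq_inv_comp, ← Category.assoc, Iso.comp_inv_eq]
          exact (fp_w φ).symm) (by show φ.hom.snd ≫ 𝟙 _ = 𝟙 _ ≫ φ.hom.snd; simp)))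
      (fun x => @isHomLift_of_fst _ _ _ _ _ _ _ _ _ _ _ _ _ (by
        haveI := iso_lift x (U := (FibCat.fp (BasedFunctor.id 𝒯) f).p.obj x) rfl
        exact inferInstanceAs (𝒯.p.IsHomLift (𝟙 ((FibCat.fp (BasedFunctor.id 𝒯) f).p.obj x)) x.obj.iso.inv)))⟩⟩
  let e' : BasedFunctor.comp (BasedFunctor.id 𝒯) (BasedFunctor.id 𝒯) ≅ BasedFunctor.comp s f := e.symm
  let i : BasedFunctor.comp s L ≅ BasedFunctor.comp (BasedFunctor.id 𝒯) (FibCat.fpLift (BasedFunctor.id 𝒯) s e') :=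
    BasedNatIso.mkNatIso
      (NatIso.ofComponents (fun x => fpIsoMk (appIso e x) (Iso.refl _) (by
        show (appIso e x).hom ≫ (appIso e x).inv = 𝟙 _ ≫ f.map (𝟙 _)
        simp
        rfl)) (fun {x y} φ => fp_hom_ext (e.hom.toNatTrans.naturality φ)
          (by show s.map φ ≫ 𝟙 _ = 𝟙 _ ≫ s.map φ; simp)))
      (fun x => @isHomLift_of_fst _ _ _ _ _ _ _ _ _ _ _ _ _ (isHomLift_appIso_hom e x rfl))
  exact (with_congr (f := FibCat.fpLift (BasedFunctor.id 𝒯) s e') (f' := s) (a := BasedFunctor.id 𝒯) (b := L)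
    isEquivOver_id hL i).1 (with_graph s e' h)

end Graph

/-- composition -/
theorem with_diag_comp (hP : GoodP P) (h𝒳 : FibCat.IsFibGrpd 𝒳.p) (h𝒴 : FibCat.IsFibGrpd 𝒴.p)
    {f : 𝒳 ⥤ᵇ 𝒴} {g : 𝒴 ⥤ᵇ 𝒵} (hf : AlgSt.RepByAlgSpWith P (FibCat.diag f))
    (hg : AlgSt.RepByAlgSpWith P (FibCat.diag g)) :
    AlgSt.RepByAlgSpWith P (FibCat.diag (BasedFunctor.comp f g)) := by
  let i : BasedFunctor.comp (FibCat.diag f) (cmp f f g) ≅ FibCat.diag (BasedFunctor.comp f g) :=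
    BasedNatIso.mkNatIso
      (NatIso.ofComponents (fun x => fpIsoMk (Iso.refl _) (Iso.refl _) (by
        show g.map (f.map (𝟙 _)) ≫ 𝟙 _ = g.map (𝟙 _) ≫ g.map (f.map (𝟙 _))
        simp)) (fun {x y} φ => fp_hom_ext
          (by show φ ≫ 𝟙 _ = 𝟙 _ ≫ φ; simp) (by show φ ≫ 𝟙 _ = 𝟙 _ ≫ φ; simp)))
      (fun x => @isHomLift_of_fst _ _ _ _ _ _ _ _ _ _ _ _ _ (IsHomLift.id rfl))
  exact with_of_iso i (with_comp hP h𝒳 (fp_isFibGrpd h𝒳 h𝒳 h𝒴 f f) hf (with_cmp' f f hg))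

/-- cancellation -/
theorem with_of_comp (hP : GoodP P) (h𝒳 : FibCat.IsFibGrpd 𝒳.p) (h𝒴 : FibCat.IsFibGrpd 𝒴.p)
    (h𝒵 : FibCat.IsFibGrpd 𝒵.p)
    {f : 𝒳 ⥤ᵇ 𝒴} {g : 𝒴 ⥤ᵇ 𝒵} (hfg : AlgSt.RepByAlgSpWith P (BasedFunctor.comp f g))
    (hg : AlgSt.RepByAlgSpWith P (FibCat.diag g)) : AlgSt.RepByAlgSpWith P f := by
  let e : BasedFunctor.comp (BasedFunctor.id 𝒳) (BasedFunctor.comp f g) ≅ BasedFunctor.comp f g := Iso.refl _
  exact with_of_iso (f := BasedFunctor.comp (FibCat.fpLift (BasedFunctor.id 𝒳) f e)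
      (FibCat.fpSnd (BasedFunctor.comp f g) g)) (Iso.refl _)
    (with_comp hP h𝒳 (fp_isFibGrpd h𝒳 h𝒴 h𝒵 _ _) (with_graph f e hg) (with_fpSnd g hfg))

theorem rep1_of_comp (h𝒳 : FibCat.IsFibGrpd 𝒳.p) (h𝒴 : FibCat.IsFibGrpd 𝒴.p) (h𝒵 : FibCat.IsFibGrpd 𝒵.p)
    {f : 𝒳 ⥤ᵇ 𝒴} {g : 𝒴 ⥤ᵇ 𝒵} (hfg : AlgSt.RepByAlgSp1 (BasedFunctor.comp f g))
    (hg : AlgSt.RepByAlgSp1 (FibCat.diag g)) : AlgSt.RepByAlgSp1 f :=
  repByAlgSp1_iff.2 (with_of_comp goodP_top h𝒳 h𝒴 h𝒵 (repByAlgSp1_iff.1 hfg) (repByAlgSp1_iff.1 hg))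

/-- a morphism of spaces with a stable property has it after all base changes -/
lemma repBySpWith_of_space (hb : PbP P) {X Y : AlgSp.Sp S} (hX : AlgSp.IsAlgSpace X) (hY : AlgSp.IsAlgSpace Y)
    {a : X ⟶ Y} (ha : P a) : AlgSp.RepBySpWith P a.hom := by
  refine (AlgSp.repBySpWith_hom_iff P a).2 fun V ξ F' fst snd sq => ?_
  have hF : AlgSp.IsAlgSpace F' := AlgSpace.isAlgSpace_pullback hY hX (AlgSp.IsAlgSpace.yon_obj V) sq
  exact ⟨hF, hb hX hY hF (AlgSp.IsAlgSpace.yon_obj V) a ξ snd fst sq ha⟩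

lemma with_diag_ofSpMap {X Y : AlgSp.Sp S} (a : X ⟶ Y)
    (h : AlgSp.RepBySpWith P (pullback.diagonal a).hom) :
    AlgSt.RepByAlgSpWith P (FibCat.diag (AlgSt.ofSpMap a)) := by
  have sq := (IsPullback.of_hasPullback a a).map (sheafToPresheaf (AlgSp.J S) (Type (u + 1)))
  let E : AlgSt.ofSp (pullback a a) ⥤ᵇ FibCat.fp (AlgSt.ofSpMap a) (AlgSt.ofSpMap a) := pbFun sq.w
  have hE : FibCat.IsEquivOver E := pbFun_isEquivOver sq
  obtain ⟨E', hE', ⟨α⟩, -⟩ := exists_inverse hE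
  let Δ := Stk.ofPshMap (pullback.diagonal a).hom
  have hd1 : (pullback.diagonal a).hom ≫ (pullback.fst a a).hom = 𝟙 X.obj :=
    congrArg (fun t => t.hom) (pullback.diagonal_fst a)
  have hd2 : (pullback.diagonal a).hom ≫ (pullback.snd a a).hom = 𝟙 X.obj :=
    congrArg (fun t => t.hom) (pullback.diagonal_snd a)
  let i : BasedFunctor.comp Δ E ≅ FibCat.diag (AlgSt.ofSpMap a) :=
    isoToPshFp (isoOfPval fun x => by
        show pval (BasedFunctor.comp Δ (Stk.ofPshMap (pullback.fst a a).hom)) x = pval (BasedFunctor.id _) x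
        rw [pval_ofPshMap, pval_ofPshMap', pval_id]
        exact app_app hd1 (op x.base) x.sec)
      (isoOfPval fun x => by
        show pval (BasedFunctor.comp Δ (Stk.ofPshMap (pullback.snd a a).hom)) x = pval (BasedFunctor.id _) x
        rw [pval_ofPshMap, pval_ofPshMap', pval_id]
        exact app_app hd2 (op x.base) x.sec)
  refine (with_congr (f := Δ) (f' := FibCat.diag (AlgSt.ofSpMap a)) (a := BasedFunctor.id _) (b := E')
    isEquivOver_id hE' ?_).1 (with_ofPshMap h)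
  exact wrIso i.symm E' ≪≫ wlIso Δ α

/-- diagonals of representable functors -/
theorem with_diag_of_rep1 (hb : PbP P) {k : 𝒳 ⥤ᵇ 𝒴} (hk : AlgSt.RepByAlgSpWith Q k)
    (h : ∀ ⦃X : AlgSp.Sp S⦄, AlgSp.IsAlgSpace X → ∀ ⦃U : Over S⦄ (a : X ⟶ (AlgSp.yon S).obj U),
      Q a → P (pullback.diagonal a)) :
    AlgSt.RepByAlgSpWith P (FibCat.diag k) := by
  refine with_diag_of_forall k fun T w => ?_
  obtain ⟨X, e, he, hQ⟩ := hk T w
  let a := AlgSt.spMapOfOver (BasedFunctor.comp e (FibCat.fpFst w k))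
  let i : BasedFunctor.comp (AlgSt.ofSpMap a) (AlgSt.toOverCat T) ≅ BasedFunctor.comp e (FibCat.fpFst w k) :=
    wrIso (eqToIso (congrArg Stk.ofPshMap (spMapOfOver_hom (BasedFunctor.comp e (FibCat.fpFst w k)))) ≪≫ (isoMapOf _).symm) (AlgSt.toOverCat T) ≪≫
      wlIso (BasedFunctor.comp e (FibCat.fpFst w k)) (eqToIso (ofOver_toOver T))
  refine (with_diag_congr (f := FibCat.fpFst w k) (f' := AlgSt.ofSpMap a) (a := e) (b := AlgSt.toOverCat T)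
    he (toOverCat_isEquivOver T) i).2 (with_diag_ofSpMap a ?_)
  exact repBySpWith_of_space hb X.property
    (AlgSpace.isAlgSpace_pullback (AlgSp.IsAlgSpace.yon_obj T) X.property X.property (IsPullback.of_hasPullback a a))
    (h X.property a hQ)

theorem rep1_diag_of_rep1 {k : 𝒳 ⥤ᵇ 𝒴} (hk : AlgSt.RepByAlgSp1 k) : AlgSt.RepByAlgSp1 (FibCat.diag k) :=
  repByAlgSp1_iff.2 (with_diag_of_rep1 (fun _ _ _ _ _ _ _ _ _ _ _ _ _ _ => trivial) (repByAlgSp1_iff.1 hk)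
    (fun _ _ _ _ _ => trivial))

/-- cancellation for diagonals -/
theorem with_diag_of_comp (hP : GoodP P) (hb : PbP P) (h𝒳 : FibCat.IsFibGrpd 𝒳.p) (h𝒴 : FibCat.IsFibGrpd 𝒴.p)
    (h𝒵 : FibCat.IsFibGrpd 𝒵.p) {f : 𝒳 ⥤ᵇ 𝒴} {g : 𝒴 ⥤ᵇ 𝒵}
    (hfg : AlgSt.RepByAlgSpWith P (FibCat.diag (BasedFunctor.comp f g)))
    (hg : AlgSt.RepByAlgSpWith Q (FibCat.diag g))
    (h : ∀ ⦃X : AlgSp.Sp S⦄, AlgSp.IsAlgSpace X → ∀ ⦃U : Over S⦄ (a : X ⟶ (AlgSp.yon S).obj U),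
      Q a → P (pullback.diagonal a)) :
    AlgSt.RepByAlgSpWith P (FibCat.diag f) := by
  let i : FibCat.diag (BasedFunctor.comp f g) ≅ BasedFunctor.comp (FibCat.diag f) (cmp f f g) :=
    BasedNatIso.mkNatIso
      (NatIso.ofComponents (fun x => fpIsoMk (Iso.refl _) (Iso.refl _) (by
        show g.map (f.map (𝟙 _)) ≫ g.map (𝟙 _) = 𝟙 _ ≫ g.map (f.map (𝟙 _))
        simp)) (fun {x y} φ => fp_hom_ext
          (by show φ ≫ 𝟙 _ = 𝟙 _ ≫ φ; simp) (by show φ ≫ 𝟙 _ = 𝟙 _ ≫ φ; simp)))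
      (fun x => @isHomLift_of_fst _ _ _ _ _ _ _ _ _ _ _ _ _ (IsHomLift.id rfl))
  exact with_of_comp hP h𝒳 (fp_isFibGrpd h𝒳 h𝒳 h𝒴 f f) (fp_isFibGrpd h𝒳 h𝒳 h𝒵 _ _) (with_of_iso i hfg)
    (with_diag_of_rep1 hb (with_cmp' f f hg) h)

end Groth.Agent.StAlg
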