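import Groth.Agent.Lib.StAlg.Rep
import Groth.Agent.Lib.AlgSpace.Rep
import Groth.Prelude.Def_AlgSpRep
import Groth.Prelude.Def_AlgSpCov

/-! Presheaves versus categories over the base: representability by algebraic spaces, descent. -/

universe v₇ u₇ v₆ u₆ v₅ u₅ v₄ u₄ v₃ u₃ v₂ u₂ u

open CategoryTheory CategoryTheory.Functor CategoryTheory.Limits AlgebraicGeometry Opposite

set_option linter.style.haveILetI false
set_option linter.unusedSimpArgs false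
set_option linter.unusedSectionVars false
set_option backward.isDefEq.respectTransparency false
set_option backward.isDefEq.respectTransparency.types false

namespace Groth.Agent.StAlg

open Groth.Agent.FC16

variable {S : Scheme.{u}} {U : Over S}

/-- `P` is insensitive to replacing a source algebraic space by an isomorphic one -/
def PreIso (P : MorphismProperty (AlgSp.Sp S)) : Prop :=
  ∀ ⦃X Y : AlgSp.Sp S⦄, AlgSp.IsAlgSpace X → AlgSp.IsAlgSpace Y → ∀ (e : X ≅ Y) ⦃U : Over S⦄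
    (a : X ⟶ (AlgSp.yon S).obj U), P a → P (e.inv ≫ a)

lemma preIso_of_respectsIso (P : MorphismProperty (AlgSp.Sp S)) [P.RespectsIso] : PreIso P :=
  fun _ _ _ _ e _ a h => MorphismProperty.RespectsIso.precomp P e.inv a h

lemma preIso_top : PreIso (⊤ : MorphismProperty (AlgSp.Sp S)) := fun _ _ _ _ _ _ _ _ => trivial

lemma preIso_of_pullback {P : MorphismProperty (AlgSp.Sp S)}
    (hPb : ∀ ⦃X₁ Y₁ X₂ Y₂ : AlgSp.Sp S⦄, AlgSp.IsAlgSpace X₁ → AlgSp.IsAlgSpace Y₁ → AlgSp.IsAlgSpace X₂ →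
      AlgSp.IsAlgSpace Y₂ → ∀ (a : X₁ ⟶ Y₁) (b : Y₂ ⟶ Y₁) (a' : X₂ ⟶ Y₂) (b' : X₂ ⟶ X₁),
      IsPullback b' a' a b → P a → P a') : PreIso P :=
  fun X Y hX hY e U a h => hPb hX (AlgSp.IsAlgSpace.yon_obj U) hY (AlgSp.IsAlgSpace.yon_obj U) a (𝟙 _)
    (e.inv ≫ a) e.inv (IsPullback.of_horiz_isIso ⟨(Category.comp_id _).symm⟩) h

variable {P : MorphismProperty (AlgSp.Sp S)}

lemma rep_ofPsh_iff {F : AlgSp.PSp S} : AlgSt.RepByAlgSp (Stk.ofPsh F) ↔ AlgSp.IsAlgSpaceP F := by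
  constructor
  · rintro ⟨X, e, he⟩
    haveI := isIso_mapOf he
    exact ((AlgSp.isAlgSpaceP_obj_iff X.obj).2 X.property).of_iso (asIso (mapOf e))
  · rintro ⟨h, hA⟩
    exact ⟨⟨⟨F, h⟩, hA⟩, BasedFunctor.id _, isEquivOver_id⟩

lemma repOf_ofPsh_of {F' : AlgSp.PSp S} (snd : F' ⟶ (AlgSp.pyon S).obj U)
    {h : Presheaf.IsSheaf (AlgSp.J S) F'} (hA : AlgSp.IsAlgSpace (⟨F', h⟩ : AlgSp.Sp S))
    (hP : P (ObjectProperty.homMk snd : (⟨F', h⟩ : AlgSp.Sp S) ⟶ (AlgSp.yon S).obj U)) :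
    RepOf P (BasedFunctor.comp (Stk.ofPshMap (Q := ((AlgSp.yon S).obj U).obj) snd) (AlgSt.toOverCat U)) := by
  refine ⟨⟨⟨F', h⟩, hA⟩, BasedFunctor.id _, isEquivOver_id, ?_⟩
  convert hP using 1
  apply ObjectProperty.hom_ext
  rw [spMapOfOver_hom]
  exact (mapOf_congr (Iso.refl _)).trans (mapOf_ofPshMap (Q := ((AlgSp.yon S).obj U).obj) snd)

lemma repOf_ofPsh_to (hPi : PreIso P) {F' : AlgSp.PSp S} (snd : F' ⟶ (AlgSp.pyon S).obj U)
    (hr : RepOf P (BasedFunctor.comp (Stk.ofPshMap (Q := ((AlgSp.yon S).obj U).obj) snd) (AlgSt.toOverCat U))) :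
    ∃ h : Presheaf.IsSheaf (AlgSp.J S) F', AlgSp.IsAlgSpace (⟨F', h⟩ : AlgSp.Sp S) ∧
      P (ObjectProperty.homMk snd : (⟨F', h⟩ : AlgSp.Sp S) ⟶ (AlgSp.yon S).obj U) := by
  obtain ⟨X, e, he, hP⟩ := hr
  haveI := isIso_mapOf he
  obtain ⟨h, hA⟩ := ((AlgSp.isAlgSpaceP_obj_iff X.obj).2 X.property).of_iso (asIso (mapOf e))
  let i : X.obj ≅ (⟨F', h⟩ : AlgSp.Sp S) :=
    (fullyFaithfulSheafToPresheaf (AlgSp.J S) _).preimageIso (Y := (⟨F', h⟩ : AlgSp.Sp S)) (asIso (mapOf e))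
  refine ⟨h, hA, ?_⟩
  have key : AlgSt.spMapOfOver (BasedFunctor.comp e
      (BasedFunctor.comp (Stk.ofPshMap (Q := ((AlgSp.yon S).obj U).obj) snd) (AlgSt.toOverCat U))) =
      i.hom ≫ (ObjectProperty.homMk snd : (⟨F', h⟩ : AlgSp.Sp S) ⟶ (AlgSp.yon S).obj U) := by
    apply ObjectProperty.hom_ext
    rw [spMapOfOver_hom]
    refine Eq.trans ?_ ((mapOf_comp e (Stk.ofPshMap (Q := ((AlgSp.yon S).obj U).obj) snd)).trans ?_)
    · exact mapOf_congr (Iso.refl _)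
    · rw [mapOf_ofPshMap]; rfl
  rw [key] at hP
  have := hPi X.property hA i _ hP
  rwa [Iso.inv_hom_id_assoc] at this

section OfPshMap

variable {F G F' : AlgSp.PSp S} {a : F ⟶ G} {fst : F' ⟶ F} {snd : F' ⟶ (AlgSp.pyon S).obj U}
  {ξ : (AlgSp.pyon S).obj U ⟶ G}

lemma exists_equiv_of_isPullback (sq : IsPullback fst snd a ξ) (y : FibCat.overCat U ⥤ᵇ Stk.ofPsh G)
    (hy : mapOf (BasedFunctor.comp (AlgSt.toOverCat U) y) = ξ) :
    ∃ E : Stk.ofPsh F' ⥤ᵇ FibCat.fp y (Stk.ofPshMap a), FibCat.IsEquivOver E ∧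
      Nonempty (BasedFunctor.comp E (FibCat.fpFst y (Stk.ofPshMap a)) ≅
        BasedFunctor.comp (Stk.ofPshMap (Q := ((AlgSp.yon S).obj U).obj) snd) (AlgSt.toOverCat U)) := by
  haveI := idFun_full (𝒳 := Stk.ofPsh G)
  haveI := idFun_faithful (𝒳 := Stk.ofPsh G)
  let i : BasedFunctor.comp (AlgSt.toOverCat U) y ≅
      BasedFunctor.comp (Stk.ofPshMap (P := ((AlgSp.yon S).obj U).obj) ξ) (BasedFunctor.id (Stk.ofPsh G)) :=
    isoMapOf _ ≪≫ eqToIso (by rw [hy]; rfl)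
  refine ⟨BasedFunctor.comp (pbFun (P₀ := F') (A := ((AlgSp.yon S).obj U).obj) sq.flip.w)
    (fpMap (F := Stk.ofPshMap (P := ((AlgSp.yon S).obj U).obj) ξ) (G := Stk.ofPshMap a) (F' := y)
      (G' := Stk.ofPshMap a) (a := AlgSt.toOverCat U) (b := BasedFunctor.id _) (s := BasedFunctor.id _)
      i (Iso.refl _)), ?_, ⟨Iso.refl _⟩⟩
  exact isEquivOver_comp (pbFun_isEquivOver (A := ((AlgSp.yon S).obj U).obj) sq.flip)
    (fpMap_isEquivOver _ _ (toOverCat_isEquivOver U) isEquivOver_id)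

lemma repOf_of_square (sq : IsPullback fst snd a ξ) (y : FibCat.overCat U ⥤ᵇ Stk.ofPsh G)
    (hy : mapOf (BasedFunctor.comp (AlgSt.toOverCat U) y) = ξ)
    {h : Presheaf.IsSheaf (AlgSp.J S) F'} (hA : AlgSp.IsAlgSpace (⟨F', h⟩ : AlgSp.Sp S))
    (hP : P (ObjectProperty.homMk snd : (⟨F', h⟩ : AlgSp.Sp S) ⟶ (AlgSp.yon S).obj U)) :
    RepOf P (FibCat.fpFst y (Stk.ofPshMap a)) := by
  obtain ⟨E, hE, ⟨i⟩⟩ := exists_equiv_of_isPullback sq y hy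
  exact repOf_of_equiv hE i (repOf_ofPsh_of snd hA hP)

lemma square_of_repOf (hPi : PreIso P) (sq : IsPullback fst snd a ξ) (y : FibCat.overCat U ⥤ᵇ Stk.ofPsh G)
    (hy : mapOf (BasedFunctor.comp (AlgSt.toOverCat U) y) = ξ)
    (hr : RepOf P (FibCat.fpFst y (Stk.ofPshMap a))) :
    ∃ h : Presheaf.IsSheaf (AlgSp.J S) F', AlgSp.IsAlgSpace (⟨F', h⟩ : AlgSp.Sp S) ∧
      P (ObjectProperty.homMk snd : (⟨F', h⟩ : AlgSp.Sp S) ⟶ (AlgSp.yon S).obj U) := by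
  obtain ⟨E, hE, ⟨i⟩⟩ := exists_equiv_of_isPullback sq y hy
  exact repOf_ofPsh_to hPi snd (repOf_of_equiv' hE i hr)

end OfPshMap

theorem with_ofPshMap {F G : AlgSp.PSp S} {a : F ⟶ G} (h : AlgSp.RepBySpWith P a) :
    AlgSt.RepByAlgSpWith P (Stk.ofPshMap a) := fun U y => by
  obtain ⟨hs, hA, hP⟩ := h _ _ _ (IsPullback.of_hasPullback a
    ((mapOf (BasedFunctor.comp (AlgSt.toOverCat U) y) : (AlgSp.pyon S).obj U ⟶ G)))
  exact repOf_of_square (IsPullback.of_hasPullback _ _) y rfl hA hP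

theorem repBySpWith_of_with (hPi : PreIso P) {F G : AlgSp.PSp S} {a : F ⟶ G}
    (h : AlgSt.RepByAlgSpWith P (Stk.ofPshMap a)) : AlgSp.RepBySpWith P a := by
  intro U ξ F' fst snd sq
  let y : FibCat.overCat U ⥤ᵇ Stk.ofPsh G :=
    BasedFunctor.comp (AlgSt.ofOverCat U) (Stk.ofPshMap (P := ((AlgSp.yon S).obj U).obj) ξ)
  have hy : mapOf (BasedFunctor.comp (AlgSt.toOverCat U) y) = ξ :=
    (mapOf_congr (Iso.refl _)).trans (mapOf_ofPshMap (P := ((AlgSp.yon S).obj U).obj) ξ)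
  exact square_of_repOf hPi sq y hy (h U y)

theorem repBySpWith_top_iff {F G : AlgSp.PSp S} {a : F ⟶ G} :
    AlgSp.RepBySpWith ⊤ a ↔ AlgSp.RepBySp a := by
  refine ⟨fun h => h.repBySp, fun h U ξ F' fst snd sq => ?_⟩
  obtain ⟨hs, hA⟩ := h ξ fst snd sq
  exact ⟨hs, hA, trivial⟩

theorem repBySp_iff {F G : AlgSp.PSp S} {a : F ⟶ G} :
    AlgSp.RepBySp a ↔ AlgSt.RepByAlgSp1 (Stk.ofPshMap a) := by
  rw [repByAlgSp1_iff, ← repBySpWith_top_iff]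
  exact ⟨with_ofPshMap, repBySpWith_of_with preIso_top⟩

section Cat

variable {𝒳 𝒴 : AlgSt.Cat S}

/-- descent to presheaves: the pullback of a representable functor along a map from a presheaf -/
theorem exists_rep_over (h𝒳 : FibCat.IsFibGrpd 𝒳.p) (h𝒴 : FibCat.IsFibGrpd 𝒴.p) {f : 𝒳 ⥤ᵇ 𝒴}
    (hf : AlgSt.RepByAlgSp1 f) {F : AlgSp.PSp S} (z : Stk.ofPsh F ⥤ᵇ 𝒴) :
    ∃ (G : AlgSp.PSp S) (a : G ⟶ F) (e : Stk.ofPsh G ⥤ᵇ FibCat.fp z f), FibCat.IsEquivOver e ∧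
      Nonempty (BasedFunctor.comp e (FibCat.fpFst z f) ≅ Stk.ofPshMap a) ∧ AlgSp.RepBySp a ∧
      ∀ P : MorphismProperty (AlgSp.Sp S), PreIso P → AlgSt.RepByAlgSpWith P f → AlgSp.RepBySpWith P a := by
  haveI := faithful_of_rep1 h𝒳 h𝒴 hf
  obtain ⟨G, e, he⟩ := exists_psh.{u + 1} (𝒳 := FibCat.fp z f)
    (isFibSetoid_fp_of_faithful z f isFibSetoid_ofPsh h𝒳 h𝒴)
  refine ⟨G, mapOf (BasedFunctor.comp e (FibCat.fpFst z f)), e, he, ⟨isoMapOf _⟩, ?_⟩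
  have key : ∀ P : MorphismProperty (AlgSp.Sp S), AlgSt.RepByAlgSpWith P f →
      AlgSt.RepByAlgSpWith P (Stk.ofPshMap (mapOf (BasedFunctor.comp e (FibCat.fpFst z f)))) := fun P hP =>
    (with_congr (f := FibCat.fpFst z f) (f' := Stk.ofPshMap (mapOf (BasedFunctor.comp e (FibCat.fpFst z f))))
      (a := e) (b := BasedFunctor.id _) he isEquivOver_id (isoMapOf _).symm).1 (with_fpFst z hP)
  exact ⟨repBySp_iff.2 (repByAlgSp1_iff.2 (key ⊤ (repByAlgSp1_iff.1 hf))),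
    fun P hPi hP => repBySpWith_of_with hPi (key P hP)⟩

theorem rep1_of_rep (hX : AlgSt.RepByAlgSp 𝒳) (hY : AlgSt.RepByAlgSp 𝒴) (f : 𝒳 ⥤ᵇ 𝒴) :
    AlgSt.RepByAlgSp1 f := by
  obtain ⟨F, eX, heX⟩ := hX
  obtain ⟨G, eY, heY⟩ := hY
  obtain ⟨eY', heY', ⟨α⟩, ⟨β⟩⟩ := exists_inverse heY
  let a : F.obj.obj ⟶ G.obj.obj := mapOf (BasedFunctor.comp (BasedFunctor.comp eX f) eY')
  have ha : AlgSp.RepBySp a := fun U ξ F' fst snd sq => AlgSpace.isAlgSpaceP_pullback sq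
    ((AlgSp.isAlgSpaceP_obj_iff _).2 F.property) (AlgSpace.isAlgSpaceP_pyon U)
    ((AlgSp.isAlgSpaceP_obj_iff _).2 G.property)
  exact (rep1_congr (f := f) (f' := Stk.ofPshMap a) (a := eX) (b := eY) heX heY
    (wrIso (isoMapOf (BasedFunctor.comp (BasedFunctor.comp eX f) eY')).symm eY ≪≫
      wlIso (BasedFunctor.comp eX f) β)).2 (repBySp_iff.1 ha)

end Cat

end Groth.Agent.StAlg
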