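import Groth.Agent.Lib.StAlg.Bridge
import Groth.Agent.Lib.AlgSpace.LocP
import Groth.Agent.Lib.AlgSpace.Points
import Groth.Agent.Lib.AlgSpace.PointsBC

/-! Composition of functors representable by algebraic spaces with a property. -/

universe v₅ u₅ v₄ u₄ v₃ u₃ v₂ u₂ u

open CategoryTheory CategoryTheory.Functor CategoryTheory.Limits AlgebraicGeometry Opposite

set_option linter.style.haveILetI false
set_option linter.unusedSimpArgs false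
set_option linter.unusedSectionVars false
set_option linter.unusedVariables false
set_option backward.isDefEq.respectTransparency false
set_option backward.isDefEq.respectTransparency.types false

namespace Groth.Agent.StAlg

open Groth.Agent.FC16

variable {S : Scheme.{u}}

/-- a property of morphisms of algebraic spaces which composes and descends from base changes to schemes -/
structure GoodP (P : MorphismProperty (AlgSp.Sp S)) : Prop where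
  preIso : PreIso P
  desc : ∀ ⦃G X : AlgSp.Sp S⦄, AlgSp.IsAlgSpace G → AlgSp.IsAlgSpace X → ∀ a : G ⟶ X,
    AlgSp.RepBySpWith P a.hom → P a
  comp : ∀ ⦃X Y Z : AlgSp.Sp S⦄, AlgSp.IsAlgSpace X → AlgSp.IsAlgSpace Y → AlgSp.IsAlgSpace Z →
    ∀ (a : X ⟶ Y) (b : Y ⟶ Z), P a → P b → P (a ≫ b)

lemma goodP_top : GoodP (⊤ : MorphismProperty (AlgSp.Sp S)) :=
  ⟨preIso_top, fun _ _ _ _ _ _ => trivial, fun _ _ _ _ _ _ _ _ _ _ => trivial⟩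

lemma goodP_of_local {P : MorphismProperty (AlgSp.Sp S)}
    (hPb : ∀ ⦃X₁ Y₁ X₂ Y₂ : AlgSp.Sp S⦄, AlgSp.IsAlgSpace X₁ → AlgSp.IsAlgSpace Y₁ → AlgSp.IsAlgSpace X₂ →
      AlgSp.IsAlgSpace Y₂ → ∀ (a : X₁ ⟶ Y₁) (b : Y₂ ⟶ Y₁) (a' : X₂ ⟶ Y₂) (b' : X₂ ⟶ X₁),
      IsPullback b' a' a b → P a → P a')
    (hPc : ∀ ⦃X Y Z : AlgSp.Sp S⦄, AlgSp.IsAlgSpace X → AlgSp.IsAlgSpace Y → AlgSp.IsAlgSpace Z →
      ∀ (a : X ⟶ Y) (b : Y ⟶ Z), P a → P b → P (a ≫ b))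
    (hP : AlgSp.IsLocalOnBase AlgSp.IsFppfCover P) : GoodP P := by
  refine ⟨preIso_of_pullback hPb, fun G X hG hX a h => ?_, hPc⟩
  obtain ⟨V, p, he, hs⟩ := hX.atlas
  have sq := IsPullback.of_hasPullback a p
  have h' := (AlgSp.repBySpWith_hom_iff P a).1 h p _ _ sq
  refine (hP (ι := PUnit.{u + 1}) (fun _ => (AlgSp.yon S).obj V) (fun _ => p) hX
    (fun _ => AlgSp.IsAlgSpace.yon_obj V) ⟨fun _ => ⟨?_, ?_⟩, fun x => ⟨PUnit.unit, ?_⟩⟩ a hG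
    (fun _ => pullback a p) (fun _ => pullback.snd a p) (fun _ => pullback.fst a p)
    (fun _ => h'.1) (fun _ => sq)).2 (fun _ => h'.2)
  · exact AlgSpace.locP_of_repWith hX (AlgSpace.repWith_mono (fun _ _ f (_ : Etale f) => (inferInstance : Flat f)) he)
  · exact AlgSpace.locP_of_repWith hX
      (AlgSpace.repWith_mono (fun _ _ f (_ : Etale f) => (inferInstance : LocallyOfFinitePresentation f)) he)
  · exact AlgSpace.surjective_map_of_repWith hs x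

lemma goodP_locP {P : MorphismProperty Scheme.{u}} [AlgSpace.EtaleLocal P] : GoodP (S := S) (AlgSp.LocP P) := by
  refine ⟨preIso_of_pullback fun X₁ Y₁ X₂ Y₂ h₁ h₂ _ h₄ a b a' b' sq h =>
    AlgSpace.locP_of_isPullback h₁ h₂ h₄ sq h, fun G X hG hX a h => ?_,
    fun X Y Z hX hY hZ a b ha hb => AlgSpace.locP_comp hX hY hZ ha hb⟩
  obtain ⟨V, p, he, hs⟩ := hX.atlas
  have sq := IsPullback.of_hasPullback a p
  exact AlgSpace.locP_of_target_cover hG hX he hs sq ((AlgSp.repBySpWith_hom_iff _ a).1 h p _ _ sq).2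

lemma goodP_surjective : GoodP (S := S) AlgSp.IsSurjectiveMor := by
  refine ⟨preIso_of_pullback fun X₁ Y₁ X₂ Y₂ _ _ _ _ a b a' b' sq h =>
    AlgSpace.surjective_of_isPullback sq h, fun G X hG hX a h => ?_, fun X Y Z _ _ _ a b ha hb => ?_⟩
  · obtain ⟨V, p, he, hs⟩ := hX.atlas
    have sq := IsPullback.of_hasPullback a p
    have h' : Function.Surjective (AlgSp.Points.map (pullback.snd a p)) :=
      ((AlgSp.repBySpWith_hom_iff _ a).1 h p _ _ sq).2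
    intro x
    obtain ⟨w, rfl⟩ := AlgSpace.surjective_map_of_repWith hs x
    obtain ⟨q, rfl⟩ := h' w
    exact ⟨AlgSp.Points.map (pullback.fst a p) q, by rw [← AlgSp.Points.map_comp, sq.w, AlgSp.Points.map_comp]⟩
  · intro z
    obtain ⟨y, rfl⟩ := hb z
    obtain ⟨x, rfl⟩ := ha y
    exact ⟨x, AlgSp.Points.map_comp a b x⟩

variable {U : Over S} {P : MorphismProperty (AlgSp.Sp S)} {𝒳 𝒴 𝒵 𝒲 : AlgSt.Cat S}

/-- the pullback of a `P`-functor to a space over `U` having `P` is a space over `U` having `P` -/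
theorem repOf_comp (hP : GoodP P) (h𝒳 : FibCat.IsFibGrpd 𝒳.p) (h𝒴 : FibCat.IsFibGrpd 𝒴.p)
    {π : 𝒲 ⥤ᵇ FibCat.overCat U} (hπ : RepOf P π) (z : 𝒲 ⥤ᵇ 𝒴) {f : 𝒳 ⥤ᵇ 𝒴}
    (hf : AlgSt.RepByAlgSpWith P f) : RepOf P (BasedFunctor.comp (FibCat.fpFst z f) π) := by
  obtain ⟨X₁, e₁, he₁, hP₁⟩ := hπ
  obtain ⟨G, a₂, e₂, he₂, ⟨i₂⟩, hr, hrP⟩ :=
    exists_rep_over h𝒳 h𝒴 (repByAlgSp1_of_with hf) (BasedFunctor.comp e₁ z)
  obtain ⟨hG, hGA⟩ := AlgSpace.isAlgSpaceP_of_repBySp a₂ hr ((AlgSp.isAlgSpaceP_obj_iff _).2 X₁.property)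
  let a : (⟨G, hG⟩ : AlgSp.Sp S) ⟶ X₁.obj := ObjectProperty.homMk a₂
  have ha : P a := hP.desc hGA X₁.property a (hrP P hP.preIso hf)
  haveI := idFun_full (𝒳 := 𝒴)
  haveI := idFun_faithful (𝒳 := 𝒴)
  refine ⟨⟨⟨G, hG⟩, hGA⟩, BasedFunctor.comp e₂ (fpMap (F := BasedFunctor.comp e₁ z) (G := f) (F' := z)
      (G' := f) (a := e₁) (b := BasedFunctor.id 𝒳) (s := BasedFunctor.id 𝒴) (Iso.refl _) (Iso.refl _)),
    isEquivOver_comp he₂ (fpMap_isEquivOver _ _ he₁ isEquivOver_id), ?_⟩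
  convert hP.comp hGA X₁.property (AlgSp.IsAlgSpace.yon_obj U) a _ ha hP₁ using 1
  apply ObjectProperty.hom_ext
  rw [spMapOfOver_hom]
  refine (mapOf_congr (wrIso i₂ (BasedFunctor.comp (BasedFunctor.comp e₁ π) (AlgSt.ofOverCat U)))).trans
    ((mapOf_comp _ _).trans ?_)
  rw [mapOf_ofPshMap]
  exact congrArg (a₂ ≫ ·) (spMapOfOver_hom _).symm

theorem with_comp (hP : GoodP P) (h𝒳 : FibCat.IsFibGrpd 𝒳.p) (h𝒴 : FibCat.IsFibGrpd 𝒴.p)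
    {f : 𝒳 ⥤ᵇ 𝒴} {g : 𝒴 ⥤ᵇ 𝒵} (hf : AlgSt.RepByAlgSpWith P f) (hg : AlgSt.RepByAlgSpWith P g) :
    AlgSt.RepByAlgSpWith P (BasedFunctor.comp f g) := fun U y =>
  repOf_of_equiv (pasteR_isEquivOver y g f) (Iso.refl _)
    (repOf_comp hP h𝒳 h𝒴 (hg U y) (FibCat.fpSnd y g) hf)

theorem rep1_comp (h𝒳 : FibCat.IsFibGrpd 𝒳.p) (h𝒴 : FibCat.IsFibGrpd 𝒴.p)
    {f : 𝒳 ⥤ᵇ 𝒴} {g : 𝒴 ⥤ᵇ 𝒵} (hf : AlgSt.RepByAlgSp1 f) (hg : AlgSt.RepByAlgSp1 g) :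
    AlgSt.RepByAlgSp1 (BasedFunctor.comp f g) :=
  repByAlgSp1_iff.2 (with_comp goodP_top h𝒳 h𝒴 (repByAlgSp1_iff.1 hf) (repByAlgSp1_iff.1 hg))

theorem rep_fp (h𝒳 : FibCat.IsFibGrpd 𝒳.p) (h𝒴 : FibCat.IsFibGrpd 𝒴.p)
    {f : 𝒳 ⥤ᵇ 𝒴} (hf : AlgSt.RepByAlgSp1 f) (hW : AlgSt.RepByAlgSp 𝒲) (z : 𝒲 ⥤ᵇ 𝒴) :
    AlgSt.RepByAlgSp (FibCat.fp z f) := by
  obtain ⟨X, e, he⟩ := hW
  obtain ⟨G, a₂, e₂, he₂, -, hr, -⟩ := exists_rep_over h𝒳 h𝒴 hf (BasedFunctor.comp e z)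
  haveI := idFun_full (𝒳 := 𝒴)
  haveI := idFun_faithful (𝒳 := 𝒴)
  exact (repByAlgSp_congr (isEquivOver_comp he₂ (fpMap_isEquivOver (F := BasedFunctor.comp e z) (G := f)
    (F' := z) (G' := f) (a := e) (b := BasedFunctor.id 𝒳) (s := BasedFunctor.id 𝒴) (Iso.refl _) (Iso.refl _)
    he isEquivOver_id))).1
    (rep_ofPsh_iff.2 (AlgSpace.isAlgSpaceP_of_repBySp a₂ hr ((AlgSp.isAlgSpaceP_obj_iff _).2 X.property)))

theorem rep_of_rep1 (h𝒳 : FibCat.IsFibGrpd 𝒳.p) (h𝒴 : FibCat.IsFibGrpd 𝒴.p)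
    {f : 𝒳 ⥤ᵇ 𝒴} (hf : AlgSt.RepByAlgSp1 f) (hY : AlgSt.RepByAlgSp 𝒴) : AlgSt.RepByAlgSp 𝒳 := by
  have hs : FibCat.IsEquivOver (FibCat.fpSnd (BasedFunctor.id 𝒴) f) :=
    ⟨FibCat.fpLift f (BasedFunctor.id 𝒳) (Iso.refl _), ⟨BasedNatIso.mkNatIso
      (NatIso.ofComponents (fun x => fpIsoMk x.obj.iso.symm (Iso.refl _) (by
        show x.obj.iso.inv ≫ x.obj.iso.hom = 𝟙 _ ≫ f.map (𝟙 _)
        simp)) (fun {x y} φ => fp_hom_ext (by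
          show f.map φ.hom.snd ≫ y.obj.iso.inv = x.obj.iso.inv ≫ φ.hom.fst
          rw [Iso.eq_inv_comp, ← Category.assoc, Iso.comp_inv_eq]
          exact (fp_w φ).symm) (by
          show φ.hom.snd ≫ 𝟙 _ = 𝟙 _ ≫ φ.hom.snd
          simp)))
      (fun x => @isHomLift_of_fst _ _ _ _ _ _ _ _ _ _ _ _ _ (by
        haveI := iso_lift x (U := (FibCat.fp (BasedFunctor.id 𝒴) f).p.obj x) rfl
        exact inferInstanceAs (𝒴.p.IsHomLift (𝟙 ((FibCat.fp (BasedFunctor.id 𝒴) f).p.obj x)) x.obj.iso.inv)))⟩, ⟨Iso.refl _⟩⟩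
  exact (repByAlgSp_congr hs).1 (rep_fp h𝒳 h𝒴 hf hY (BasedFunctor.id 𝒴))

end Groth.Agent.StAlg
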